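import Mathlib
import Cfsg.Agent.H676.Deg.Val
import Cfsg.Agent.Characters.GaloisBasic
import Cfsg.Agent.Characters.SchurBound
import Cfsg.Agent.H727.DegCount

/-!
# Values at the `p`-singular elements when they do not depend on the `p`-part (helper676, S4910)

`|P| = p`, `C(P) = P × K`, no hypothesis on the action of `N(P)`.

* `val_const` : if `χ (x y)` does not depend on `x ∈ P \ 1` (`y ∈ K`) then `χ` vanishes on the `p`-singular elements, or
  `χ (x y) = δ φ(y)`, `δ = ±1`, `φ` the sum of an `N(P)`-orbit of irreducible characters of `K`; `χ 1 = δ φ(1) mod p`;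
* `sum_period` : for a set `S` of linear characters of `P`: `∑_x |∑_{l ∈ S} l x|² = p |S|`.
-/

set_option autoImplicit false
set_option linter.unusedSectionVars false

open Cfsg
open scoped ComplexConjugate

namespace Cfsg.Agent.H676.Deg

open Subgroup
open Cfsg.Agent.Characters.Core Cfsg.Agent.SmallSimple.PrimeDual
open Cfsg.Agent.SmallSimple.ThetaSetup Cfsg.Agent.SmallSimple.ThetaOrtho
open Cfsg.Agent.SmallSimple.TheoremC Cfsg.Agent.SmallSimple.TheoremCCor

universe u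

section Period

variable {Q : Type u} [Group Q]

theorem sum_period [Fintype Q] (S S' : Finset (Q →* ℂˣ)) [DecidableEq (Q →* ℂˣ)] :
    ∑ x : Q, (∑ l ∈ S, ((l x : ℂˣ) : ℂ)) * conj (∑ l ∈ S', ((l x : ℂˣ) : ℂ)) =
      (S ∩ S').card * (Nat.card Q : ℂ) := by
  have h1 : ∀ x : Q, (∑ l ∈ S, ((l x : ℂˣ) : ℂ)) * conj (∑ l ∈ S', ((l x : ℂˣ) : ℂ)) =
      ∑ l ∈ S, ∑ l' ∈ S', ((l x : ℂˣ) : ℂ) * conj ((l' x : ℂˣ) : ℂ) := by
    intro x
    rw [map_sum, Finset.sum_mul_sum]
  rw [Finset.sum_congr rfl fun x _ => h1 x, Finset.sum_comm]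
  have h2 : ∀ l ∈ S, ∑ x : Q, ∑ l' ∈ S', ((l x : ℂˣ) : ℂ) * conj ((l' x : ℂˣ) : ℂ) =
      if l ∈ S' then (Nat.card Q : ℂ) else 0 := by
    intro l _
    rw [Finset.sum_comm, Finset.sum_congr rfl fun l' _ => sum_hom_mul_conj l l', Finset.sum_ite_eq]
  rw [Finset.sum_congr rfl h2, ← Finset.sum_filter, Finset.sum_const, nsmul_eq_mul]
  rw [Finset.filter_mem_eq_inter]

/-- A period which is constant off `1` is the sum of all nontrivial characters. -/
theorem period_const {p : ℕ} (hp : p.Prime) (hQ : Nat.card Q = p) [Finite Q] {S : Finset (Q →* ℂˣ)} (h1 : 1 ∉ S)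
    (hS : S.Nonempty) {c : ℂ} (h : ∀ x : Q, x ≠ 1 → ∑ l ∈ S, ((l x : ℂˣ) : ℂ) = c) : c = -1 := by
  classical
  have := Fintype.ofFinite Q
  have e1 := SmallSimple.TheoremBCor.sum_const_off (f := fun x : Q => ∑ l ∈ S, ((l x : ℂˣ) : ℂ)) h
  have e2 := SmallSimple.TheoremBCor.sum_exc_off (f := fun x : Q => ∑ l ∈ S, ((l x : ℂˣ) : ℂ)) (d := 1) h1
    (fun x _ => by rw [one_mul])
  have e3 := SmallSimple.TheoremBCor.sum_const_off
    (f := fun x : Q => (∑ l ∈ S, ((l x : ℂˣ) : ℂ)) * conj (∑ l ∈ S, ((l x : ℂˣ) : ℂ))) (c := c * conj c)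
    (fun x hx => by rw [h x hx])
  rw [sum_period, Finset.inter_self] at e3
  have e0 : ∑ l ∈ S, ((l (1 : Q) : ℂˣ) : ℂ) = S.card := by simp
  simp only [e0, hQ, Complex.conj_natCast, one_mul] at e1 e2 e3
  rw [e2, sub_self] at e1
  -- `e + (p - 1) c = 0`, `p e = e² + (p - 1) |c|²`
  have hp1 : (p : ℝ) - 1 ≠ 0 := by
    have : (1 : ℝ) < p := by exact_mod_cast hp.one_lt
    linarith
  have hp1' : (p : ℂ) - 1 ≠ 0 := by exact_mod_cast (by exact_mod_cast hp1 : (((p : ℝ) - 1 : ℝ) : ℂ) ≠ 0)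
  have hc : c = -(S.card : ℂ) / ((p : ℂ) - 1) := by
    rw [eq_div_iff hp1']
    linear_combination -e1
  have hcc : conj c = c := by
    rw [hc]
    simp [map_div₀]
  rw [hcc] at e3
  have hs : (S.card : ℂ) ≠ 0 := by
    have := hS.card_pos
    exact_mod_cast this.ne'
  have h5 : (S.card : ℂ) = -((p : ℂ) - 1) * c := by linear_combination -e1
  rw [h5] at e3 hs
  have hc0 : c ≠ 0 := by
    rintro rfl
    exact hs (by ring)
  have hp0 : (p : ℂ) ≠ 0 := by exact_mod_cast hp.ne_zero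
  have h6 : ((p : ℂ) - 1) * c * (p : ℂ) * (c + 1) = 0 := by linear_combination -e3
  rcases mul_eq_zero.1 h6 with h7 | h7
  · exact absurd h7 (mul_ne_zero (mul_ne_zero hp1' hc0) hp0)
  · linear_combination h7

end Period

variable {G : Type u} [Group G] [Finite G] {p : ℕ} [Fact p.Prime] {P : Sylow p G} {K : Subgroup G}

/-- If `part θ χ` is constant off `1` then the constant is `±1`. -/
theorem part_const (hK : IsComp p (P : Subgroup G) K) (hP : Nat.card P = p) {θ : K → ℂ} (hθ : IsIrrCharacter K θ)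
    {χ : IrrCharacter G} (hχ : χ ∈ Over P θ)
    (hc : ∀ x x' : P, x ≠ 1 → x' ≠ 1 → part θ (χ : G → ℂ) x = part θ (χ : G → ℂ) x') :
    ∃ δ : ℤ, (δ = 1 ∨ δ = -1) ∧ ∀ x : P, x ≠ 1 → part θ (χ : G → ℂ) x = δ := by
  have hp : p.Prime := Fact.out
  have h0 : Nat.card (stabAct hK θ) ∣ p - 1 := by
    have h1 := Subgroup.card_subgroup_dvd_card (stabAct hK θ)
    have h2 : Nat.card (MulAut P) = p - 1 := by
      have : IsCyclic P := isCyclic_of_prime_card hP
      rw [IsCyclic.card_mulAut, hP, Nat.totient_prime hp]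
    rwa [h2] at h1
  obtain ⟨t, ht⟩ := h0
  obtain ⟨NE, X, ε, d, S, h1, h2, h3, h4, h5, h6, h7, h8, -, -, -⟩ := theoremC hK hP hθ rfl ht.symm
  rcases (h1 χ).1 hχ with h | h
  · exact ⟨ε χ, h5 χ h, h7 χ h⟩
  · obtain ⟨h9, h10, -, h12⟩ := h8 χ h
    have hne : ∃ x₀ : P, x₀ ≠ 1 := by
      have : Nontrivial P := by
        rw [← Finite.one_lt_card_iff_nontrivial]
        exact hp.one_lt.trans_eq hP.symm
      exact exists_ne 1
    obtain ⟨x₀, hx₀⟩ := hne
    have hSne : (S χ).Nonempty := by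
      rw [← Finset.card_pos, h9]
      exact Nat.card_pos
    have hd0 : (d : ℂ) ≠ 0 := by
      rcases h6 with rfl | rfl <;> norm_num
    have h13 := period_const hp hP h10 hSne (c := ∑ l ∈ S χ, ((l x₀ : ℂˣ) : ℂ)) (fun x hx => by
      have h14 := hc x x₀ hx hx₀
      rw [h12 x hx, h12 x₀ hx₀] at h14
      exact mul_left_cancel₀ hd0 h14)
    refine ⟨-d, ?_, fun x hx => ?_⟩
    · rcases h6 with rfl | rfl
      · right; rfl
      · left; norm_num
    · rw [hc x x₀ hx hx₀, h12 x₀ hx₀, h13]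
      push_cast
      ring

/-- `χ (x y)` does not depend on `x ∈ P \ 1`. -/
def Const (P : Sylow p G) (K : Subgroup G) (χ : G → ℂ) : Prop :=
  ∀ x x' : P, x ≠ 1 → x' ≠ 1 → ∀ y : K, χ (x * y) = χ (x' * y)

theorem part_eq_of_const {χ : G → ℂ} (hc : Const P K χ) (θ : K → ℂ) (x x' : P) (hx : x ≠ 1) (hx' : x' ≠ 1) :
    part θ χ x = part θ χ x' := by
  have := Fintype.ofFinite K
  rw [part_eq, part_eq]
  congr 1
  exact Finset.sum_congr rfl fun y _ => by rw [hc x x' hx hx' y]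

/-- The members of an orbit have the same degree. -/
theorem orb_one (hK : IsComp p (P : Subgroup G) K) {θ : K → ℂ} {θ' : IrrCharacter K} (h : θ' ∈ orb P K θ) :
    (θ' : K → ℂ) 1 = θ 1 := by
  obtain ⟨n, hn, h⟩ := mem_orb.1 h
  rw [← h, tw_apply hK _ hn]
  exact congrArg θ (Subtype.ext (by simp))

/-- **Values, `χ` constant on `P \ 1`.** -/
theorem val_const (hK : IsComp p (P : Subgroup G) K) (hP : Nat.card P = p) (χ : IrrCharacter G)
    (hc : Const P K (χ : G → ℂ)) :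
    ((∀ g : G, p ∣ orderOf g → (χ : G → ℂ) g = 0) ∧ ∃ k : ℤ, (χ : G → ℂ) 1 = p * k) ∨
    ∃ (θ : IrrCharacter K) (δ : ℤ), (δ = 1 ∨ δ = -1) ∧
      (∀ x : P, x ≠ 1 → ∀ y : K, (χ : G → ℂ) (x * y) = δ * ∑ θ' ∈ orb P K (θ : K → ℂ), (θ' : K → ℂ) y) ∧
      ∃ k : ℤ, (χ : G → ℂ) 1 = δ * (((orb P K (θ : K → ℂ)).card : ℂ) * (θ : K → ℂ) 1) + p * k := by
  classical
  by_cases hex : ∃ θ : IrrCharacter K, χ ∈ Over P (θ : K → ℂ)
  · right
    obtain ⟨θ, hθ⟩ := hex
    obtain ⟨δ, h1, h2⟩ := part_const hK hP θ.2 hθ (part_eq_of_const hc _)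
    refine ⟨θ, δ, h1, fun x hx y => apply_of_const hK hP θ.2 hθ h2 hx y, ?_⟩
    obtain ⟨k, hk⟩ := degree_of_const hK hP θ.2 hθ h2
    refine ⟨k, ?_⟩
    rw [hk, Finset.sum_congr rfl (g := fun _ => (θ : K → ℂ) 1) fun θ' hθ' => orb_one hK hθ', Finset.sum_const,
      nsmul_eq_mul]
  · left
    push Not at hex
    refine ⟨fun g hg => apply_eq_zero hK hP hex hg, ?_⟩
    have : Finite (IrrCharacter K) := finite_irr
    have := Fintype.ofFinite (IrrCharacter K)
    obtain ⟨k, hk⟩ := degree_of_parts (p := p) (K := K) χ (fun _ => 0) (fun θ => by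
      refine part_one_of_const hK hP (isIrr_isCharacter χ.2) θ.2 (c := 0) fun x hx => ?_
      rw [part_eq_zero (hex θ) hx, Int.cast_zero])
    refine ⟨k, ?_⟩
    rw [hk]
    simp

theorem self_mem_orb (θ : IrrCharacter K) : θ ∈ orb P K (θ : K → ℂ) := mem_orb.2 ⟨1, one_mem _, tw_one _⟩

/-- `k θ(1)² ≤ |K|`. -/
theorem card_orb_mul_sq_le (hK : IsComp p (P : Subgroup G) K) (θ : IrrCharacter K) {n : ℕ}
    (hn : (θ : K → ℂ) 1 = n) : (orb P K (θ : K → ℂ)).card * n ^ 2 ≤ Nat.card K := by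
  classical
  have : Finite (IrrCharacter K) := finite_irr
  have := Fintype.ofFinite (IrrCharacter K)
  choose d hd using fun θ : IrrCharacter K => isCharacter_apply_one (isIrr_isCharacter θ.2)
  have h1 := Cfsg.Agent.CharDeep.PowerDegrees.sum_sq (G := K)
  simp only [hd] at h1
  have h2 : ∑ ψ : IrrCharacter K, d ψ ^ 2 = Nat.card K := by exact_mod_cast h1
  rw [← h2]
  have h3 : ∑ ψ ∈ orb P K (θ : K → ℂ), d ψ ^ 2 = (orb P K (θ : K → ℂ)).card * n ^ 2 := by
    rw [Finset.sum_congr rfl (g := fun _ => n ^ 2), Finset.sum_const, smul_eq_mul]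
    intro ψ hψ
    have h4 := orb_one hK hψ
    rw [hd, hn] at h4
    rw [show d ψ = n by exact_mod_cast h4]
  rw [← h3]
  exact Finset.sum_le_sum_of_subset (Finset.subset_univ _)

/-- `k θ(1)² < |K|` if `θ ≠ 1`. -/
theorem card_orb_mul_sq_lt (hK : IsComp p (P : Subgroup G) K) (θ : IrrCharacter K) (h1 : (θ : K → ℂ) ≠ 1) {n : ℕ}
    (hn : (θ : K → ℂ) 1 = n) : (orb P K (θ : K → ℂ)).card * n ^ 2 < Nat.card K := by
  classical
  have : Finite (IrrCharacter K) := finite_irr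
  have := Fintype.ofFinite (IrrCharacter K)
  choose d hd using fun θ : IrrCharacter K => isCharacter_apply_one (isIrr_isCharacter θ.2)
  have h2 := Cfsg.Agent.CharDeep.PowerDegrees.sum_sq (G := K)
  simp only [hd] at h2
  have h3 : ∑ ψ : IrrCharacter K, d ψ ^ 2 = Nat.card K := by exact_mod_cast h2
  rw [← h3]
  have h4 : ∑ ψ ∈ orb P K (θ : K → ℂ), d ψ ^ 2 = (orb P K (θ : K → ℂ)).card * n ^ 2 := by
    rw [Finset.sum_congr rfl (g := fun _ => n ^ 2), Finset.sum_const, smul_eq_mul]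
    intro ψ hψ
    have h4 := orb_one hK hψ
    rw [hd, hn] at h4
    rw [show d ψ = n by exact_mod_cast h4]
  rw [← h4]
  let one : IrrCharacter K := ⟨1, isIrr_one⟩
  refine Finset.sum_lt_sum_of_subset (Finset.subset_univ _) (i := one) (Finset.mem_univ _) ?_ ?_ fun _ _ _ => Nat.zero_le _
  · intro hmem
    obtain ⟨n, hn, h⟩ := mem_orb.1 hmem
    apply h1
    have h5 : tw (tw (θ : K → ℂ) n) n⁻¹ = (θ : K → ℂ) := by
      rw [← tw_mul hK _ hn (inv_mem hn), mul_inv_cancel, tw_one]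
    rw [← h5, h]
    funext y
    rw [tw_apply hK _ (inv_mem hn)]
    rfl
  · have h6 : ((d one : ℕ) : ℂ) = 1 := by rw [← hd one]; rfl
    have h7 : d one = 1 := by exact_mod_cast h6
    rw [h7]
    norm_num

theorem orb_eq_of_one (hK : IsComp p (P : Subgroup G) K) (θ : IrrCharacter K) (h1 : (θ : K → ℂ) = 1) :
    orb P K (θ : K → ℂ) = {θ} := by
  refine orb_of_stable θ.2 fun n hn => ?_
  funext y
  rw [tw_apply hK _ hn, h1]
  rfl

/-- `k` is at most the number of the characters of the same degree. -/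
theorem card_orb_le_cnt (hK : IsComp p (P : Subgroup G) K) (θ : IrrCharacter K) {n : ℕ} (hn : (θ : K → ℂ) 1 = n) :
    (orb P K (θ : K → ℂ)).card ≤ H727.DegCount.cnt K n := by
  classical
  have : Finite (IrrCharacter K) := finite_irr
  have := Fintype.ofFinite (IrrCharacter K)
  unfold H727.DegCount.cnt
  rw [Nat.card_eq_fintype_card, Fintype.card_subtype]
  refine Finset.card_le_card fun ψ hψ => ?_
  rw [Finset.mem_filter]
  exact ⟨Finset.mem_univ _, by rw [orb_one hK hψ, hn]⟩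

theorem card_orb_pos (θ : IrrCharacter K) : 0 < (orb P K (θ : K → ℂ)).card :=
  Finset.card_pos.2 ⟨θ, self_mem_orb θ⟩

theorem card_orb_dvd (hK : IsComp p (P : Subgroup G) K) (hP : Nat.card P = p) (θ : IrrCharacter K) :
    (orb P K (θ : K → ℂ)).card ∣
      (centralizer ((P : Subgroup G) : Set G)).relIndex (normalizer ((P : Subgroup G) : Set G)) :=
  ⟨_, by rw [← card_stabAct_mul_card_orb hK hP θ.2, mul_comm]⟩

/-- A character vanishing at an element of order 3 has degree divisible by 3. -/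
theorem three_dvd_of_zero {H : Type u} [Group H] [Finite H] {φ : H → ℂ} (hφ : IsCharacter H φ) {z : H}
    (hz : orderOf z = 3) (h0 : φ z = 0) {n : ℕ} (hn : φ 1 = n) : 3 ∣ n := by
  obtain ⟨d, -, hd⟩ := Cfsg.Agent.Characters.SchurBound.exists_sum_range hφ hn z
  have h2 : φ (z ^ 2) = 0 := by
    have h3 : z ^ 2 = z⁻¹ := by
      rw [eq_inv_iff_mul_eq_one, ← pow_succ]
      exact orderOf_dvd_iff_pow_eq_one.1 (by rw [hz])
    rw [h3, isCharacter_apply_inv hφ, h0, map_zero]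
  rw [hz, Finset.sum_range_succ, Finset.sum_range_succ, Finset.sum_range_one, pow_zero, pow_one, h0, h2, hn] at hd
  refine ⟨d, ?_⟩
  have h4 : (n : ℂ) = ((3 * d : ℕ) : ℂ) := by
    push_cast
    linear_combination hd
  exact_mod_cast h4

end Cfsg.Agent.H676.Deg
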