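import Mathlib
import Cfsg.Agent.H676.Deg.Orb
import Cfsg.Agent.H442.ZerosSmall
import Cfsg.Agent.H792.DS.Tools
import Cfsg.Agent.SmallSimple.DihedralNormalizer

/-!
# Residues of the degrees of the characters which are constant on `P \ 1` (helper676, S4910, row M)

`|P| = p`, `C(P) = P × K`, `χ (x y)` independent of `x ∈ P \ 1`:

* `res_one` : `|K| ≤ 2`: `χ 1 = 0, ±1 mod p`;
* `res_three` : `|K| = 3`, `χ (x z) = 0` for `z ∈ K` of order 3: `p ∣ χ 1`;
* `res_24` : `|K| = 24`, `|N : C| = 11`, `χ (x z) = 0`: `χ 1 = 0, ±3 mod p`;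
* `res_168` : `K` simple with the degrees of `L₂(7)`, `χ (x z) = 0`, `χ (x w)` rational (`w` of order 7):
  `χ 1 = 0, ±6 mod p`.
-/

set_option autoImplicit false
set_option linter.unusedSectionVars false

open Cfsg
open scoped ComplexConjugate

namespace Cfsg.Agent.H676.Deg

open Subgroup
open Cfsg.Agent.Characters.Core Cfsg.Agent.SmallSimple.PrimeDual
open Cfsg.Agent.SmallSimple.ThetaSetup Cfsg.Agent.SmallSimple.ThetaOrtho
open Cfsg.Agent.SmallSimple.TheoremC Cfsg.Agent.SmallSimple.TheoremCCor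

universe u

variable {G : Type u} [Group G] [Finite G] {p : ℕ} [Fact p.Prime] {P : Sylow p G} {K : Subgroup G}

theorem exists_ne_P (hP : Nat.card P = p) : ∃ x : P, x ≠ 1 := by
  have hp : p.Prime := Fact.out
  have : Nontrivial P := by
    rw [← Finite.one_lt_card_iff_nontrivial]
    exact hp.one_lt.trans_eq hP.symm
  exact exists_ne 1

/-- **Residue of the degree.** -/
theorem res_orb (hK : IsComp p (P : Subgroup G) K) (hP : Nat.card P = p) (χ : IrrCharacter G)
    (hc : Const P K (χ : G → ℂ)) {d : ℕ} (hd : (χ : G → ℂ) 1 = d) :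
    (p : ℤ) ∣ d ∨ ∃ (θ : IrrCharacter K) (δ : ℤ) (n : ℕ), (δ = 1 ∨ δ = -1) ∧ 0 < n ∧ (θ : K → ℂ) 1 = n ∧
      (∀ x : P, x ≠ 1 → ∀ y : K, (χ : G → ℂ) (x * y) = δ * ∑ θ' ∈ orb P K (θ : K → ℂ), (θ' : K → ℂ) y) ∧
      (p : ℤ) ∣ d - δ * ((orb P K (θ : K → ℂ)).card * n) := by
  rcases val_const hK hP χ hc with ⟨-, k, hk⟩ | ⟨θ, δ, h1, h2, k, hk⟩
  · left
    rw [hd] at hk
    exact ⟨k, by exact_mod_cast hk⟩
  · right
    obtain ⟨n, hn0, hn⟩ := isIrr_apply_one θ.2
    refine ⟨θ, δ, n, h1, hn0, hn, h2, k, ?_⟩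
    rw [hd, hn] at hk
    have h3 : (d : ℤ) = δ * ((orb P K (θ : K → ℂ)).card * n) + p * k := by exact_mod_cast hk
    rw [h3]
    ring

theorem isCharacter_orb (θ : IrrCharacter K) :
    IsCharacter K (fun y => ∑ θ' ∈ orb P K (θ : K → ℂ), (θ' : K → ℂ) y) := by
  have h := isCharacter_sum (orb P K (θ : K → ℂ)) (f := fun θ' : IrrCharacter K => (θ' : K → ℂ))
    fun θ' _ => isIrr_isCharacter θ'.2
  have e : (fun y => ∑ θ' ∈ orb P K (θ : K → ℂ), (θ' : K → ℂ) y) = ∑ θ' ∈ orb P K (θ : K → ℂ), (θ' : K → ℂ) := by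
    funext y
    rw [Finset.sum_apply]
  rw [e]
  exact h

/-- the zeros force `3 ∣ φ(1)` -/
theorem three_dvd_orb (hK : IsComp p (P : Subgroup G) K) (hP : Nat.card P = p) {χ : IrrCharacter G}
    {θ : IrrCharacter K} {δ : ℤ} {n : ℕ} (h1 : δ = 1 ∨ δ = -1) (hn : (θ : K → ℂ) 1 = n)
    (h2 : ∀ x : P, x ≠ 1 → ∀ y : K, (χ : G → ℂ) (x * y) = δ * ∑ θ' ∈ orb P K (θ : K → ℂ), (θ' : K → ℂ) y)
    (h3 : 3 ∣ Nat.card K)
    (h0 : ∀ x : P, x ≠ 1 → ∀ z : K, orderOf z = 3 → (χ : G → ℂ) (x * z) = 0) :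
    3 ∣ (orb P K (θ : K → ℂ)).card * n := by
  have : Fact (Nat.Prime 3) := ⟨Nat.prime_three⟩
  obtain ⟨z, hz⟩ := exists_prime_orderOf_dvd_card' (G := K) 3 h3
  obtain ⟨x, hx⟩ := exists_ne_P hP
  refine three_dvd_of_zero (isCharacter_orb (P := P) θ) hz ?_ ?_
  · have h4 := h0 x hx z hz
    rw [h2 x hx z] at h4
    have hδ : (δ : ℂ) ≠ 0 := by
      rcases h1 with rfl | rfl <;> norm_num
    exact (mul_eq_zero.1 h4).resolve_left hδ
  · show ∑ θ' ∈ orb P K (θ : K → ℂ), (θ' : K → ℂ) 1 = _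
    rw [Finset.sum_congr rfl (g := fun _ => (n : ℂ)) fun θ' hθ' => by rw [orb_one hK hθ', hn], Finset.sum_const,
      nsmul_eq_mul]
    push_cast
    rfl

/-- `k n² ≤ |K|`, strictly unless `θ = 1`. -/
theorem orb_bound (hK : IsComp p (P : Subgroup G) K) (θ : IrrCharacter K) {n : ℕ} (hn : (θ : K → ℂ) 1 = n) :
    ((orb P K (θ : K → ℂ)).card = 1 ∧ n = 1) ∨ (orb P K (θ : K → ℂ)).card * n ^ 2 < Nat.card K := by
  by_cases h : (θ : K → ℂ) = 1
  · left
    rw [orb_eq_of_one hK θ h, Finset.card_singleton]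
    refine ⟨rfl, ?_⟩
    rw [h, Pi.one_apply] at hn
    exact_mod_cast hn.symm
  · exact Or.inr (card_orb_mul_sq_lt hK θ h hn)

theorem res_one (hK : IsComp p (P : Subgroup G) K) (hP : Nat.card P = p) (χ : IrrCharacter G)
    (hc : Const P K (χ : G → ℂ)) {d : ℕ} (hd : (χ : G → ℂ) 1 = d) (hcard : Nat.card K ≤ 2) :
    (p : ℤ) ∣ d ∨ (p : ℤ) ∣ d - 1 ∨ (p : ℤ) ∣ d + 1 := by
  rcases res_orb hK hP χ hc hd with h | ⟨θ, δ, n, h1, hn0, hn, h2, h3⟩
  · exact Or.inl h
  · right
    have h4 := card_orb_pos (P := P) θ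
    have h5 : (orb P K (θ : K → ℂ)).card = 1 ∧ n = 1 := by
      rcases orb_bound hK θ hn with h | h
      · exact h
      · have h6 : (orb P K (θ : K → ℂ)).card * n ^ 2 < 2 := h.trans_le hcard
        have h7 : 1 ≤ n ^ 2 := Nat.one_le_pow _ _ hn0
        have h8 : (orb P K (θ : K → ℂ)).card ≤ (orb P K (θ : K → ℂ)).card * n ^ 2 := Nat.le_mul_of_pos_right _ h7
        have h9 : n ^ 2 ≤ (orb P K (θ : K → ℂ)).card * n ^ 2 := Nat.le_mul_of_pos_left _ h4
        have h10 : n ≤ n ^ 2 := Nat.le_self_pow (by norm_num) _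
        omega
    rw [h5.1, h5.2] at h3
    rcases h1 with rfl | rfl
    · left; simpa using h3
    · right; simpa using h3

theorem res_three (hK : IsComp p (P : Subgroup G) K) (hP : Nat.card P = p) (χ : IrrCharacter G)
    (hc : Const P K (χ : G → ℂ)) {d : ℕ} (hd : (χ : G → ℂ) 1 = d) (hcard : Nat.card K = 3)
    (h0 : ∀ x : P, x ≠ 1 → ∀ z : K, orderOf z = 3 → (χ : G → ℂ) (x * z) = 0) : (p : ℤ) ∣ d := by
  rcases res_orb hK hP χ hc hd with h | ⟨θ, δ, n, h1, hn0, hn, h2, h3⟩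
  · exact h
  · exfalso
    have h4 := card_orb_pos (P := P) θ
    have h5 := three_dvd_orb hK hP h1 hn h2 (by rw [hcard]) h0
    rcases orb_bound hK θ hn with h | h
    · rw [h.1, h.2] at h5
      norm_num at h5
    · rw [hcard] at h
      have h7 : 1 ≤ n ^ 2 := Nat.one_le_pow _ _ hn0
      have h10 : n ≤ n ^ 2 := Nat.le_self_pow (by norm_num) _
      have h11 : (orb P K (θ : K → ℂ)).card * n ≤ (orb P K (θ : K → ℂ)).card * n ^ 2 := Nat.mul_le_mul_left _ h10
      have h12 := Nat.le_of_dvd (Nat.mul_pos h4 hn0) h5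
      omega

theorem num24 {k n : ℕ} (hn : 0 < n) (h : (k = 1 ∧ n = 1) ∨ k * n ^ 2 < 24) (h3 : 3 ∣ k * n) (h11 : k ∣ 11) : k = 1 ∧ n = 3 := by
  rcases (Nat.dvd_prime (by norm_num : Nat.Prime 11)).1 h11 with rfl | rfl
  · refine ⟨rfl, ?_⟩
    rw [one_mul] at h3 h
    obtain ⟨m, rfl⟩ := h3
    rcases h with h | h
    · omega
    · have : m < 2 := by nlinarith
      omega
  · exfalso
    rcases h with h | h
    · omega
    · have : n < 2 := by nlinarith
      have : n = 1 := by omega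
      subst this
      norm_num at h3

theorem res_24 (hK : IsComp p (P : Subgroup G) K) (hP : Nat.card P = p) (χ : IrrCharacter G)
    (hc : Const P K (χ : G → ℂ)) {d : ℕ} (hd : (χ : G → ℂ) 1 = d) (hcard : Nat.card K = 24)
    (he : (centralizer ((P : Subgroup G) : Set G)).relIndex (normalizer ((P : Subgroup G) : Set G)) = 11)
    (h0 : ∀ x : P, x ≠ 1 → ∀ z : K, orderOf z = 3 → (χ : G → ℂ) (x * z) = 0) :
    (p : ℤ) ∣ d ∨ (p : ℤ) ∣ d - 3 ∨ (p : ℤ) ∣ d + 3 := by
  rcases res_orb hK hP χ hc hd with h | ⟨θ, δ, n, h1, hn0, hn, h2, h3⟩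
  · exact Or.inl h
  · right
    have h4 := card_orb_pos (P := P) θ
    have h5 := three_dvd_orb hK hP h1 hn h2 (by rw [hcard]; norm_num) h0
    have h6 := card_orb_dvd hK hP θ
    rw [he] at h6
    obtain ⟨h8, h9⟩ := num24 hn0 (by rw [← hcard]; exact orb_bound hK θ hn) h5 h6
    rw [h8, h9] at h3
    rcases h1 with rfl | rfl
    · left; simpa using h3
    · right; simpa using h3

/-- a rational value of an irreducible character of degree `3` at an element of order `7` -/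
theorem val_seven {H : Type u} [Group H] [Finite H] {φ : H → ℂ} (hφ : IsIrrCharacter H φ) (h3 : φ 1 = 3) {w : H}
    (hw : orderOf w = 7) (hr : ∃ q : ℚ, φ w = q) : φ w = 3 := by
  obtain ⟨v, hv⟩ := Cfsg.Agent.Characters.GaloisBasic.exists_int_of_rat (isIrr_isCharacter hφ) w hr
  have h1 := H792.DS.degree_modEq (by norm_num : Nat.Prime 7) hφ hw hv
  have h2 : charDegree φ = 3 := by
    have h4 := Cfsg.Agent.Blocks.Basic.irr_one_eq_charDegree hφ
    rw [h3] at h4
    exact_mod_cast h4.symm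
  rw [h2] at h1
  have h5 := Cfsg.Agent.Characters.SchurBound.norm_le (isIrr_isCharacter hφ) (n := 3) (by rw [h3]; norm_num) w
  rw [hv] at h5
  have h6 : |v| ≤ 3 := by
    have : (|v| : ℝ) ≤ 3 := by
      rw [← Complex.norm_intCast]
      exact_mod_cast h5
    exact_mod_cast this
  have h7 := abs_le.1 h6
  have h8 : v = 3 := by
    have h9 : (3 : ℤ) % 7 = v % 7 := h1
    omega
  rw [hv, h8]
  norm_num

/-- **17 in the Monster**: `K` simple of order 168. -/
theorem res_168 (hK : IsComp p (P : Subgroup G) K) (hP : Nat.card P = p) (χ : IrrCharacter G)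
    (hc : Const P K (χ : G → ℂ)) {d : ℕ} (hd : (χ : G → ℂ) 1 = d) (hcard : Nat.card K = 168)
    (hs : IsSimpleGroup K) (D : H442.ZerosSmall.Deg7 K)
    (h0 : ∀ x : P, x ≠ 1 → ∀ z : K, orderOf z = 3 → (χ : G → ℂ) (x * z) = 0)
    (hr : ∀ x : P, x ≠ 1 → ∀ w : K, orderOf w = 7 → ∃ q : ℚ, (χ : G → ℂ) (x * w) = q) :
    (p : ℤ) ∣ d ∨ (p : ℤ) ∣ d - 6 ∨ (p : ℤ) ∣ d + 6 := by
  rcases res_orb hK hP χ hc hd with h | ⟨θ, δ, n, h1, hn0, hn, h2, h3⟩
  · exact Or.inl h
  · right
    have h4 := card_orb_pos (P := P) θ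
    have h5 := three_dvd_orb hK hP h1 hn h2 (by rw [hcard]; norm_num) h0
    have h6 := card_orb_le_cnt hK θ hn
    have h7 := D.mem n (lt_of_lt_of_le h4 h6)
    have h8 : (orb P K (θ : K → ℂ)).card * n = 6 := by
      simp only [Finset.mem_insert, Finset.mem_singleton] at h7
      rcases h7 with rfl | rfl | rfl | rfl | rfl
      · rw [D.one] at h6
        have : (orb P K (θ : K → ℂ)).card = 1 := by omega
        rw [this] at h5
        norm_num at h5
      · rw [D.three] at h6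
        have h9 : (orb P K (θ : K → ℂ)).card ≠ 1 := by
          intro h9
          obtain ⟨x, hx⟩ := exists_ne_P hP
          have : Fact (Nat.Prime 7) := ⟨by norm_num⟩
          obtain ⟨w, hw⟩ := exists_prime_orderOf_dvd_card' (G := K) 7 (by rw [hcard]; norm_num)
          obtain ⟨q, hq⟩ := hr x hx w hw
          obtain ⟨θ₀, hθ₀⟩ := Finset.card_eq_one.1 h9
          have h10 : θ = θ₀ := by
            have := self_mem_orb (P := P) θ
            rwa [hθ₀, Finset.mem_singleton] at this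
          subst h10
          rw [h2 x hx w, hθ₀, Finset.sum_singleton] at hq
          have h11 : ∃ q : ℚ, (θ : K → ℂ) w = q := by
            rcases h1 with rfl | rfl
            · exact ⟨q, by rw [← hq]; simp⟩
            · exact ⟨-q, by push_cast; rw [← hq]; simp⟩
          have h12 := val_seven θ.2 (by rw [hn]; norm_num) hw h11
          have := Fintype.ofFinite K
          have h13 := Cfsg.Agent.SmallSimple.DihedralNormalizer.eq_one_of_apply_eq θ.2 (fun h => by
            rw [h, Pi.one_apply] at hn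
            norm_num at hn) (s := w) (by rw [h12, hn]; norm_num)
          rw [h13, orderOf_one] at hw
          norm_num at hw
        have : (orb P K (θ : K → ℂ)).card = 2 := by omega
        rw [this]
      · rw [D.six] at h6
        have : (orb P K (θ : K → ℂ)).card = 1 := by omega
        rw [this]
      · rw [D.seven] at h6
        have : (orb P K (θ : K → ℂ)).card = 1 := by omega
        rw [this] at h5
        norm_num at h5
      · rw [D.eight] at h6
        have : (orb P K (θ : K → ℂ)).card = 1 := by omega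
        rw [this] at h5
        norm_num at h5
    have h9 : (((orb P K (θ : K → ℂ)).card : ℤ) * (n : ℤ)) = 6 := by exact_mod_cast h8
    rw [h9] at h3
    rcases h1 with rfl | rfl
    · left; simpa using h3
    · right; simpa using h3

end Cfsg.Agent.H676.Deg
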