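import Mathlib
import Cfsg.Agent.H676.Deg.Res
import Cfsg.Agent.H648.Loc.Value

/-!
# Inertial index `(p - 1) / 2`, and the rational case (helper676, S4910, row M)

* `period_half` : `E ≤ Aut P` of odd order `e = (p - 1) / 2`, `s = ∑_{l ∈ S} l` an `E`-stable period of length `e`:
  `s(x)² + s(x) + (p + 1) / 4 = 0` for `x ≠ 1`;
* `exc_half` : the values and the degree of a character which is not constant on `P \ 1`;
* `relIndex_of_conj` : if the nontrivial elements of `P` are conjugate then `|N : C| = p - 1`;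
* `res_60` : `|N : C| = p - 1`, `K` with the degrees of `A₅`: `χ x = c`, `χ 1 = c mod p`, `3 ∣ c` or `c = ±1, ±4, ±5`.
-/

set_option autoImplicit false
set_option linter.unusedSectionVars false

open Cfsg
open scoped ComplexConjugate

namespace Cfsg.Agent.H676.Deg

open Subgroup
open Cfsg.Agent.Characters.Core Cfsg.Agent.SmallSimple.PrimeDual
open Cfsg.Agent.SmallSimple.ThetaSetup Cfsg.Agent.SmallSimple.ThetaOrtho
open Cfsg.Agent.SmallSimple.TheoremC Cfsg.Agent.SmallSimple.TheoremCCor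

universe u

section Period

variable {Q : Type u} [Group Q]

theorem gen_of_prime {p : ℕ} (hp : p.Prime) (hQ : Nat.card Q = p) (z : Q) (hz : z ≠ 1) (w : Q) : w ∈ zpowers z := by
  have : Finite Q := Nat.finite_of_card_ne_zero (by rw [hQ]; exact hp.ne_zero)
  have h1 : Nat.card (zpowers z) ∣ p := by rw [← hQ]; exact Subgroup.card_subgroup_dvd_card _
  rcases (Nat.dvd_prime hp).1 h1 with h2 | h2
  · exact absurd (Subgroup.zpowers_eq_bot.1 (Subgroup.card_eq_one.1 h2)) hz
  · have h3 : zpowers z = ⊤ := Subgroup.eq_top_of_card_eq _ (by rw [h2, hQ])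
    rw [h3]
    exact mem_top w

theorem card_ne_one {p : ℕ} (hQ : Nat.card Q = p) [Finite Q] : Nat.card {y : Q // y ≠ 1} = p - 1 := by
  classical
  have := Fintype.ofFinite Q
  rw [← hQ, Nat.card_eq_fintype_card, Nat.card_eq_fintype_card, Fintype.card_subtype_compl, Fintype.card_subtype_eq]

theorem exists_mulAut {p : ℕ} (hp : p.Prime) (hQ : Nat.card Q = p) {x y : Q} (hx : x ≠ 1) (hy : y ≠ 1) :
    ∃ r : MulAut Q, r x = y := by
  have := Fact.mk hp
  have : Finite Q := Nat.finite_of_card_ne_zero (by rw [hQ]; exact hp.ne_zero)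
  have hgen : ∀ z : Q, z ≠ 1 → ∀ w : Q, w ∈ zpowers z := gen_of_prime hp hQ
  have hox : orderOf x = orderOf y := by
    rw [orderOf_eq_card_of_forall_mem_zpowers (hgen x hx), orderOf_eq_card_of_forall_mem_zpowers (hgen y hy)]
  exact ⟨mulEquivOfOrderOfEq (hgen x hx) (hgen y hy) hox, mulEquivOfOrderOfEq_apply_gen _ _ _⟩

/-- **The quadratic period.** -/
theorem period_half [Finite Q] {p e : ℕ} (hp : p.Prime) (hQ : Nat.card Q = p) (E : Subgroup (MulAut Q))
    (hE : Nat.card E = e) (h2e : 2 * e = p - 1) (hodd : Odd e) {S : Finset (Q →* ℂˣ)} (hS : S.card = e)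
    (h1 : 1 ∉ S) (hst : ∀ r ∈ E, ∀ x : Q, ∑ l ∈ S, ((l (r x) : ℂˣ) : ℂ) = ∑ l ∈ S, ((l x : ℂˣ) : ℂ)) {x : Q}
    (hx : x ≠ 1) :
    4 * ((∑ l ∈ S, ((l x : ℂˣ) : ℂ)) ^ 2 + ∑ l ∈ S, ((l x : ℂˣ) : ℂ)) + (p + 1) = 0 := by
  classical
  have := Fintype.ofFinite Q
  set s : Q → ℂ := fun x => ∑ l ∈ S, ((l x : ℂˣ) : ℂ) with hs
  have hconj : ∀ x, s x⁻¹ = conj (s x) := by
    intro x
    simp only [hs, map_sum]
    exact Finset.sum_congr rfl fun l _ => (conj_hom_apply l x).symm
  -- the inversion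
  let inv : MulAut Q :=
    { toFun := fun x => x⁻¹
      invFun := fun x => x⁻¹
      left_inv := fun x => inv_inv x
      right_inv := fun x => inv_inv x
      map_mul' := fun a b => by rw [mul_inv_rev, comm_of_card hp hQ] }
  have hinv : ∀ x, inv x = x⁻¹ := fun _ => rfl
  have hp2 : p ≠ 2 := by
    rintro rfl
    obtain ⟨m, hm⟩ := hodd
    omega
  have hinvE : inv ∉ E := by
    intro h
    have h2 : orderOf inv ∣ e := by
      rw [← hE]
      have := orderOf_dvd_natCard (⟨inv, h⟩ : E)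
      rwa [← Subgroup.orderOf_coe] at this
    have h3 : inv ^ 2 = 1 := by
      ext x
      rw [pow_two, MulAut.mul_apply, hinv, hinv, inv_inv, MulAut.one_apply]
    have h4 : orderOf inv ∣ 2 := orderOf_dvd_of_pow_eq_one h3
    have h5 : orderOf inv = 1 := by
      rcases (Nat.dvd_prime Nat.prime_two).1 h4 with h5 | h5
      · exact h5
      · rw [h5] at h2
        obtain ⟨m, hm⟩ := hodd
        omega
    have h6 : inv = 1 := orderOf_eq_one_iff.1 h5
    have h7 : x⁻¹ = x := by
      rw [← hinv, h6, MulAut.one_apply]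
    have h8 : x ^ 2 = 1 := by
      rw [pow_two]
      nth_rewrite 1 [← h7]
      exact inv_mul_cancel x
    have h9 : orderOf x ∣ 2 := orderOf_dvd_of_pow_eq_one h8
    have h10 : orderOf x ∣ p := by rw [← hQ]; exact orderOf_dvd_natCard x
    rcases (Nat.dvd_prime Nat.prime_two).1 h9 with h11 | h11
    · exact hx (orderOf_eq_one_iff.1 h11)
    · rw [h11] at h10
      exact hp2 ((Nat.prime_dvd_prime_iff_eq Nat.prime_two hp).1 h10).symm
  have hidx : E.index = 2 := by
    have h2 : Nat.card (MulAut Q) = p - 1 := by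
      have := Fact.mk hp
      have : IsCyclic Q := isCyclic_of_prime_card hQ
      rw [IsCyclic.card_mulAut, hQ, Nat.totient_prime hp]
    have h3 := E.card_mul_index
    rw [h2, hE, ← h2e, mul_comm 2 e] at h3
    have he0 : 0 < e := hodd.pos
    exact Nat.eq_of_mul_eq_mul_left he0 h3
  have hval : ∀ y : Q, y ≠ 1 → s y = s x ∨ s y = conj (s x) := by
    intro y hy
    obtain ⟨r, hr⟩ := exists_mulAut hp hQ hx hy
    by_cases hrE : r ∈ E
    · left
      rw [← hr]
      exact hst r hrE x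
    · right
      have h3 : r * inv ∈ E := by
        by_contra h4
        have h5 := (Subgroup.mul_mem_iff_of_index_two hidx (a := r) (b := inv))
        exact h4 (h5.2 ⟨fun h => absurd h hrE, fun h => absurd h hinvE⟩)
      have h4 := hst (r * inv) h3 x⁻¹
      rw [MulAut.mul_apply, hinv, inv_inv, hr] at h4
      rw [← hconj]
      exact h4
  -- the two sums
  have e2 := SmallSimple.TheoremBCor.sum_exc_off (f := s) (d := 1) h1 (fun x _ => by rw [one_mul])
  have e1 := SmallSimple.TheoremBCor.sum_const_off (f := fun y => s y + conj (s y)) (c := s x + conj (s x))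
    (fun y hy => by
      rcases hval y hy with h | h
      · rw [h]
      · rw [h, Complex.conj_conj, add_comm])
  have e3 := SmallSimple.TheoremBCor.sum_const_off (f := fun y => s y * conj (s y)) (c := s x * conj (s x))
    (fun y hy => by
      rcases hval y hy with h | h
      · rw [h]
      · rw [h, Complex.conj_conj, mul_comm])
  have e4 := sum_period S S
  rw [Finset.inter_self] at e4
  have e0 : s 1 = e := by
    rw [hs]
    simp [hS]
  have e5 : ∑ y : Q, s y = 0 := by
    rw [e2, e0, hS]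
    ring
  have e6 : ∑ y : Q, (s y + conj (s y)) = 0 := by
    rw [Finset.sum_add_distrib, ← map_sum, e5, map_zero, add_zero]
  rw [e6] at e1
  simp only [e0, hQ, Complex.conj_natCast] at e1 e3
  change ∑ y : Q, s y * conj (s y) = _ at e4
  rw [e4, hQ, hS] at e3
  have hpe : (p : ℂ) = 2 * e + 1 := by
    have : p = 2 * e + 1 := by
      have := hp.pos
      omega
    exact_mod_cast this
  have he0 : (e : ℂ) ≠ 0 := by
    have := hodd.pos
    exact_mod_cast this.ne'
  rw [hpe] at e1 e3 ⊢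
  -- `0 = 2 e + 2 e (a + a')`, `e (2 e + 1) = e² + 2 e a a'`
  have e7 : s x + conj (s x) = -1 := by
    have : (2 * (e : ℂ)) * (s x + conj (s x) + 1) = 0 := by linear_combination -e1
    rcases mul_eq_zero.1 this with h | h
    · exact absurd h (mul_ne_zero two_ne_zero he0)
    · linear_combination h
  have e8 : 2 * (s x * conj (s x)) = e + 1 := by
    have : (e : ℂ) * (2 * (s x * conj (s x)) - (e + 1)) = 0 := by linear_combination -e3
    rcases mul_eq_zero.1 this with h | h
    · exact absurd h he0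
    · linear_combination h
  have e9 : conj (s x) = -1 - s x := by linear_combination e7
  rw [e9] at e8
  linear_combination -2 * e8

end Period

variable {G : Type u} [Group G] [Finite G] {p : ℕ} [Fact p.Prime] {P : Sylow p G} {K : Subgroup G}

/-- **Inertial index `(p - 1) / 2`, exceptional case.** -/
theorem exc_half (hK : IsComp p (P : Subgroup G) K) (hP : Nat.card P = p) {θ : K → ℂ} (hθ : IsIrrCharacter K θ)
    (hst : ∀ n ∈ normalizer ((P : Subgroup G) : Set G), tw θ n = θ) {e : ℕ}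
    (he : (centralizer ((P : Subgroup G) : Set G)).relIndex (normalizer ((P : Subgroup G) : Set G)) = e)
    (h2e : 2 * e = p - 1) (hodd : Odd e) {χ : IrrCharacter G} (hχ : χ ∈ Over P θ)
    (hc : ¬ Const P K (χ : G → ℂ)) {d n : ℕ} (hd : (χ : G → ℂ) 1 = d) (hn : θ 1 = n) :
    ∃ (δ : ℤ) (s : P → ℂ), (δ = 1 ∨ δ = -1) ∧ (∀ x : P, x ≠ 1 → 4 * (s x ^ 2 + s x) + (p + 1) = 0) ∧
      (∀ x : P, x ≠ 1 → ∀ y : K, (χ : G → ℂ) (x * y) = δ * s x * θ y) ∧
      (p : ℤ) ∣ d - δ * (e * n) := by
  classical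
  have hp : p.Prime := Fact.out
  have he' : Nat.card (stabAct hK θ) = e := by rw [card_stabAct_of_stable hK hP hθ hst, he]
  obtain ⟨NE, X, ε, δ, S, h1, h2, h3, h4, h5, h6, h7, h8, -, -, -⟩ :=
    theoremC hK hP hθ he' (t := 2) (by rw [mul_comm]; exact h2e)
  rcases (h1 χ).1 hχ with h | h
  · exfalso
    apply hc
    intro x x' hx hx' y
    rw [apply_of_stable hK hP hθ hst hχ hx, apply_of_stable hK hP hθ hst hχ hx', h7 χ h x hx, h7 χ h x' hx']
  · obtain ⟨h9, h10, -, h12⟩ := h8 χ h
    have hd0 : (δ : ℂ) ≠ 0 := by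
      rcases h6 with rfl | rfl <;> norm_num
    refine ⟨δ, fun x => ∑ l ∈ S χ, ((l x : ℂˣ) : ℂ), h6, fun x hx => ?_, fun x hx y => ?_, ?_⟩
    · refine period_half hp hP (stabAct hK θ) he' h2e hodd h9 h10 (fun r hr y => ?_) hx
      by_cases hy : y = 1
      · rw [hy, map_one]
      · have hy' : r y ≠ 1 := fun h => hy ((MulEquiv.map_eq_one_iff r).1 h)
        have h13 := part_stabAct hK (isIrr_isClassFunction χ.2) hr y
        rw [h12 y hy, h12 _ hy'] at h13
        exact mul_left_cancel₀ hd0 h13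
    · rw [apply_of_stable hK hP hθ hst hχ hx, h12 x hx]
    · have : Finite (IrrCharacter K) := finite_irr
      have := Fintype.ofFinite (IrrCharacter K)
      obtain ⟨k, hk⟩ := degree_of_parts (p := p) χ
        (fun θ' : IrrCharacter K => if (θ' : K → ℂ) = θ then δ * e else 0) (fun θ' => by
        by_cases hθ' : (θ' : K → ℂ) = θ
        · obtain ⟨m, hm⟩ := part_one_of_exc hK hP (isIrr_isCharacter χ.2) hθ h10 h12
          refine ⟨m, ?_⟩
          rw [hθ', hm, h9, if_pos rfl]
          push_cast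
          ring
        · rw [if_neg hθ']
          refine part_one_of_const hK hP (isIrr_isCharacter χ.2) θ'.2 (c := 0) fun x hx => ?_
          rw [part_eq_zero_of_not_mem_orb hK hP hθ hχ (by
            rw [orb_of_stable hθ hst, Finset.mem_singleton]
            exact fun h => hθ' (by rw [h])) hx, Int.cast_zero])
      refine ⟨k, ?_⟩
      rw [Finset.sum_eq_single (⟨θ, hθ⟩ : IrrCharacter K)] at hk
      · simp only [if_true, hn, hd] at hk
        have h14 : (d : ℤ) = δ * e * n + p * k := by exact_mod_cast hk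
        rw [h14]
        ring
      · intro b _ hb
        rw [if_neg (fun h => hb (Subtype.ext h))]
        simp
      · intro h
        exact absurd (Finset.mem_univ _) h

/-- a root of the quadratic equation is `η` or its conjugate -/
theorem root_eq {c : ℝ} (hc : 1 < 4 * c) {η z : ℂ} (hη : η ^ 2 + η + c = 0) (hz : z ^ 2 + z + c = 0) :
    z = η ∨ z = conj η := by
  have h1 : (z - η) * (z + η + 1) = 0 := by linear_combination hz - hη
  rcases mul_eq_zero.1 h1 with h | h
  · left; linear_combination h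
  · right
    have h2 : η.re = -1 / 2 := by
      have hre := congrArg Complex.re hη
      have him := congrArg Complex.im hη
      simp only [pow_two, Complex.add_re, Complex.mul_re, Complex.ofReal_re, Complex.zero_re, Complex.add_im,
        Complex.mul_im, Complex.ofReal_im, Complex.zero_im, add_zero] at hre him
      have h3 : η.im * (2 * η.re + 1) = 0 := by linarith
      rcases mul_eq_zero.1 h3 with h4 | h4
      · exfalso
        rw [h4] at hre
        nlinarith [sq_nonneg (2 * η.re + 1)]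
      · linarith
    apply Complex.ext
    · have := congrArg Complex.re h
      simp only [Complex.add_re, Complex.one_re, Complex.zero_re] at this
      rw [Complex.conj_re]
      linarith
    · have := congrArg Complex.im h
      simp only [Complex.add_im, Complex.one_im, Complex.zero_im, add_zero] at this
      rw [Complex.conj_im]
      linarith

/-- If the nontrivial elements of `P` are conjugate in `G` then `|N(P) : C(P)| = p - 1`. -/
theorem relIndex_of_conj (hP : Nat.card P = p) (h : ∀ x y : P, x ≠ 1 → y ≠ 1 → IsConj (x : G) y) :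
    (centralizer ((P : Subgroup G) : Set G)).relIndex (normalizer ((P : Subgroup G) : Set G)) = p - 1 := by
  classical
  have hp : p.Prime := Fact.out
  obtain ⟨x₀, hx₀⟩ := exists_ne_P hP
  set N := normalizer ((P : Subgroup G) : Set G) with hN
  set C := centralizer ((P : Subgroup G) : Set G) with hC
  have hCN : C ≤ N := by
    intro g hg
    rw [hN, mem_normalizer_iff]
    intro y
    constructor
    · intro hy
      have h1 := mem_centralizer_iff.1 hg y hy
      rw [← h1, mul_assoc, mul_inv_cancel, mul_one]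
      exact hy
    · intro hy
      have h1 := mem_centralizer_iff.1 hg _ hy
      have h2 : y = g * y * g⁻¹ := by
        have h3 : g * y * g⁻¹ * g = g * (g * y * g⁻¹) := h1
        have h4 : g * y = g * (g * y * g⁻¹) := by rw [← h3]; group
        exact mul_left_cancel h4
      rw [h2]
      exact hy
  -- generator
  have hgen : ∀ w : P, w ∈ zpowers x₀ := gen_of_prime hp hP x₀ hx₀
  have hmemC : ∀ g : G, g ∈ C ↔ g * x₀ * g⁻¹ = x₀ := by
    intro g
    rw [hC, mem_centralizer_iff]
    constructor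
    · intro hg
      rw [← hg x₀ x₀.2, mul_assoc, mul_inv_cancel, mul_one]
    · intro hg y hy
      obtain ⟨k, hk⟩ := mem_zpowers_iff.1 (hgen ⟨y, hy⟩)
      have h1 : y = (x₀ : G) ^ k := by
        have := congrArg Subtype.val hk
        simpa using this.symm
      have h2 : Commute g x₀ := by
        show g * x₀ = x₀ * g
        nth_rewrite 2 [← hg]
        group
      rw [h1]
      exact (h2.zpow_right k).symm
  let f : N → {y : P // y ≠ 1} := fun n => ⟨⟨n * x₀ * (n : G)⁻¹, (mem_normalizer_iff.1 n.2 x₀).1 x₀.2⟩, fun h => by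
    have h1 : (n : G) * x₀ * (n : G)⁻¹ = 1 := congrArg Subtype.val h
    exact hx₀ (Subtype.ext (conj_eq_one_iff.1 h1))⟩
  have hf : Function.Surjective f := by
    rintro ⟨y, hy⟩
    obtain ⟨g, hg⟩ := isConj_iff.1 (h x₀ y hx₀ hy)
    have hgN : g ∈ N := mem_normalizer_of_conj hP x₀.2 y.2 (fun h => hy (Subtype.ext h)) hg
    exact ⟨⟨g, hgN⟩, Subtype.ext (Subtype.ext hg)⟩
  have hcard : Nat.card (N ⧸ C.subgroupOf N) = Nat.card {y : P // y ≠ 1} := by
    refine Nat.card_congr (Equiv.ofBijective (Quotient.lift f ?_) ⟨?_, ?_⟩)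
    · intro a b hab
      rw [← Quotient.eq_iff_equiv, QuotientGroup.eq] at hab
      have h1 := (hmemC _).1 (mem_subgroupOf.1 hab)
      apply Subtype.ext
      apply Subtype.ext
      show (a : G) * x₀ * (a : G)⁻¹ = b * x₀ * (b : G)⁻¹
      simp only [coe_mul, coe_inv] at h1
      calc (a : G) * x₀ * (a : G)⁻¹ = (a : G) * ((a : G)⁻¹ * b * x₀ * ((a : G)⁻¹ * b)⁻¹) * (a : G)⁻¹ := by rw [h1]
        _ = b * x₀ * (b : G)⁻¹ := by group
    · rintro ⟨a⟩ ⟨b⟩ hab
      refine Quotient.sound (QuotientGroup.leftRel_apply.2 ?_)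
      rw [mem_subgroupOf, hmemC]
      have h1 : (a : G) * x₀ * (a : G)⁻¹ = b * x₀ * (b : G)⁻¹ :=
        congrArg (fun w : {y : P // y ≠ 1} => ((w : P) : G)) hab
      simp only [coe_mul, coe_inv]
      calc (a : G)⁻¹ * b * x₀ * ((a : G)⁻¹ * b)⁻¹ = (a : G)⁻¹ * (b * x₀ * (b : G)⁻¹) * a := by group
        _ = (a : G)⁻¹ * (a * x₀ * (a : G)⁻¹) * a := by rw [h1]
        _ = x₀ := by group
    · intro y
      obtain ⟨n, hn⟩ := hf y
      exact ⟨Quotient.mk _ n, hn⟩
  rw [relIndex, Subgroup.index, hcard]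
  exact card_ne_one hP

theorem orderOf_P (hP : Nat.card P = p) {x : P} (hx : x ≠ 1) : orderOf (x : G) = p :=
  Cfsg.Agent.Blocks.CyclicOrtho.orderOf_eq P hP x.2 fun h => hx (Subtype.ext h)

/-- **19 in the Monster**: `K ≅ A₅`, all nontrivial elements of `P` conjugate. -/
theorem res_60 (hK : IsComp p (P : Subgroup G) K) (hP : Nat.card P = p) (χ : IrrCharacter G)
    (hconj : ∀ x y : P, x ≠ 1 → y ≠ 1 → IsConj (x : G) y) (D : H442.ZerosSmall.Deg5 K) {d : ℕ}
    (hd : (χ : G → ℂ) 1 = d) :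
    ∃ c : ℤ, (∀ x : P, x ≠ 1 → (χ : G → ℂ) x = c) ∧ (p : ℤ) ∣ d - c ∧
      (3 ∣ c ∨ c = 1 ∨ c = -1 ∨ c = 4 ∨ c = -4 ∨ c = 5 ∨ c = -5) := by
  classical
  have hp : p.Prime := Fact.out
  obtain ⟨x₀, hx₀⟩ := exists_ne_P hP
  have hcj : ∀ i : ℕ, ¬ p ∣ i → IsConj (x₀ : G) ((x₀ : G) ^ i) := by
    intro i hi
    refine hconj x₀ (x₀ ^ i) hx₀ fun h => hi ?_
    rw [← orderOf_P hP hx₀]
    refine orderOf_dvd_of_pow_eq_one ?_
    exact congrArg Subtype.val h
  obtain ⟨v, hv, hdv⟩ := H648.Loc.exists_value hp (orderOf_P hP hx₀) hcj χ.2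
  have hdeg : (charDegree (χ : G → ℂ) : ℤ) = d := by
    have h1 := Cfsg.Agent.Blocks.Basic.irr_one_eq_charDegree χ.2
    rw [hd] at h1
    exact_mod_cast h1.symm
  rw [hdeg] at hdv
  have hall : ∀ x : P, x ≠ 1 → (χ : G → ℂ) x = v := by
    intro x hx
    rw [← hv]
    exact Cfsg.Agent.Blocks.Basic.irr_isConj χ.2 (hconj x x₀ hx hx₀)
  refine ⟨v, hall, hdv, ?_⟩
  by_cases hex : ∃ θ : IrrCharacter K, χ ∈ Over P (θ : K → ℂ)
  · obtain ⟨θ, hθ⟩ := hex
    obtain ⟨n, hn0, hn⟩ := isIrr_apply_one θ.2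
    have h4 := card_orb_pos (P := P) θ
    have h6 := card_orb_le_cnt hK θ hn
    have h7 := D.mem n (lt_of_lt_of_le h4 h6)
    simp only [Finset.mem_insert, Finset.mem_singleton] at h7
    have hone : (orb P K (θ : K → ℂ)).card = 1 → v = n ∨ v = -n := by
      intro h8
      have he' : Nat.card (stabAct hK (θ : K → ℂ)) = p - 1 := by
        have h9 := card_stabAct_mul_card_orb hK hP θ.2
        rwa [h8, mul_one, relIndex_of_conj hP hconj] at h9
      obtain ⟨B, δ, -, hB, hδ, -⟩ := theoremC_one hK hP θ.2 he'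
      obtain ⟨h1, h2⟩ := hδ χ ((hB χ).1 hθ)
      have h3 := apply_of_const hK hP θ.2 hθ h2 hx₀ 1
      obtain ⟨θ₀, hθ₀⟩ := Finset.card_eq_one.1 h8
      have h10 : θ = θ₀ := by
        have := self_mem_orb (P := P) θ
        rwa [hθ₀, Finset.mem_singleton] at this
      subst h10
      rw [hθ₀, Finset.sum_singleton, hn, coe_one, mul_one, hv] at h3
      have h5 : v = δ χ * n := by exact_mod_cast h3
      rcases h1 with h | h
      · left; rw [h5, h, one_mul]
      · right; rw [h5, h]; ring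
    rcases h7 with rfl | rfl | rfl | rfl
    · rw [D.one] at h6
      rcases hone (by omega) with h | h <;> rw [h] <;> norm_num
    · left
      have h8 := apply_mul_orb hK hP θ.2 hθ hx₀ 1
      rw [coe_one, mul_one, hv, Finset.sum_congr rfl (g := fun θ' : IrrCharacter K =>
        part (θ' : K → ℂ) (χ : G → ℂ) x₀ * 3) (fun θ' hθ' => by rw [orb_one hK hθ', hn]; norm_num),
        ← Finset.sum_mul] at h8
      have h9 : IsIntegral ℤ (∑ θ' ∈ orb P K (θ : K → ℂ), part (θ' : K → ℂ) (χ : G → ℂ) x₀) := by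
        refine IsIntegral.sum _ fun θ' _ => ?_
        exact Cfsg.Agent.Characters.GaloisBasic.isIntegral_apply (isCharacter_part hK (isIrr_isCharacter χ.2) θ'.2) x₀
      obtain ⟨m, hm⟩ := Cfsg.Agent.Characters.GaloisBasic.exists_int_of_isIntegral h9 ⟨v / 3, by
        push_cast
        rw [h8]
        ring⟩
      rw [hm] at h8
      refine ⟨m, ?_⟩
      have h10 : v = m * 3 := by exact_mod_cast h8
      rw [h10, mul_comm]
    · rw [D.four] at h6
      rcases hone (by omega) with h | h <;> rw [h] <;> norm_num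
    · rw [D.five] at h6
      rcases hone (by omega) with h | h <;> rw [h] <;> norm_num
  · left
    push Not at hex
    have h1 := apply_eq_zero hK hP hex (g := (x₀ : G)) (by rw [orderOf_P hP hx₀])
    rw [hv] at h1
    have h2 : v = 0 := by exact_mod_cast h1
    rw [h2]
    exact dvd_zero 3

/-- **31 in the Monster**: `K` nonabelian of order 6, `|N : C| = (p - 1) / 2` odd, `χ` not constant on `P \ 1`. -/
theorem res_6 (hK : IsComp p (P : Subgroup G) K) (hP : Nat.card P = p) (χ : IrrCharacter G) (hcard : Nat.card K = 6)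
    (hna : ∃ ψ : IrrCharacter K, (ψ : K → ℂ) 1 ≠ 1) {e : ℕ}
    (he : (centralizer ((P : Subgroup G) : Set G)).relIndex (normalizer ((P : Subgroup G) : Set G)) = e)
    (h2e : 2 * e = p - 1) (hodd : Odd e) (hc : ¬ Const P K (χ : G → ℂ)) {d : ℕ} (hd : (χ : G → ℂ) 1 = d) :
    ∃ (c : ℤ) (s : P → ℂ), (c = 1 ∨ c = -1 ∨ c = 2 ∨ c = -2) ∧
      (∀ x : P, x ≠ 1 → 4 * (s x ^ 2 + s x) + (p + 1) = 0) ∧
      (∀ x : P, x ≠ 1 → (χ : G → ℂ) x = c * s x) ∧ (p : ℤ) ∣ d - c * e := by
  classical
  have : Finite (IrrCharacter K) := finite_irr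
  have := Fintype.ofFinite (IrrCharacter K)
  have hex : ∃ θ : IrrCharacter K, χ ∈ Over P (θ : K → ℂ) := by
    by_contra hex
    push Not at hex
    apply hc
    intro x x' hx hx' y
    have h0 : ∀ z : P, z ≠ 1 → (χ : G → ℂ) (z * y) = 0 := by
      intro z hz
      rw [sum_part (isIrr_isClassFunction χ.2) (fun y hy => hK.comm z.2 hy)]
      exact Finset.sum_eq_zero fun θ _ => by rw [part_eq_zero (hex θ) hz, zero_mul]
    rw [h0 x hx, h0 x' hx']
  obtain ⟨θ, hθ⟩ := hex
  obtain ⟨n, hn0, hn⟩ := isIrr_apply_one θ.2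
  -- the orbit is a singleton
  have hk : (orb P K (θ : K → ℂ)).card ∣ e := by
    rw [← he]
    exact card_orb_dvd hK hP θ
  have hko : Odd (orb P K (θ : K → ℂ)).card := hodd.of_dvd_nat hk
  obtain ⟨ψ, hψ⟩ := hna
  choose dg hdg using fun θ : IrrCharacter K => isCharacter_apply_one (isIrr_isCharacter θ.2)
  have hsum : ∑ φ : IrrCharacter K, dg φ ^ 2 = 6 := by
    have h1 := Cfsg.Agent.CharDeep.PowerDegrees.sum_sq (G := K)
    simp only [hdg, hcard] at h1
    exact_mod_cast h1
  have hsub : ∀ T : Finset (IrrCharacter K), ∑ φ ∈ T, dg φ ^ 2 ≤ 6 := fun T => by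
    rw [← hsum]
    exact Finset.sum_le_sum_of_subset (Finset.subset_univ _)
  have hdgn : ∀ φ ∈ orb P K (θ : K → ℂ), dg φ = n := by
    intro φ hφ
    have h1 := orb_one hK hφ
    rw [hn, hdg] at h1
    exact_mod_cast h1
  have hsq : ∑ φ ∈ orb P K (θ : K → ℂ), dg φ ^ 2 = (orb P K (θ : K → ℂ)).card * n ^ 2 := by
    rw [Finset.sum_congr rfl (g := fun _ => n ^ 2) (fun φ hφ => by rw [hdgn φ hφ]), Finset.sum_const, smul_eq_mul]
  have hψ2 : 2 ≤ dg ψ := by
    obtain ⟨m, hm0, hm⟩ := isIrr_apply_one ψ.2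
    have h1 : dg ψ = m := by
      have := (hdg ψ).symm.trans hm
      exact_mod_cast this
    rw [h1]
    by_contra h2
    have h3 : m = 1 := by omega
    apply hψ
    rw [hm, h3, Nat.cast_one]
  have hk1 : (orb P K (θ : K → ℂ)).card = 1 ∧ n ≤ 2 := by
    have h1 := hsub (orb P K (θ : K → ℂ))
    rw [hsq] at h1
    obtain ⟨m, hm⟩ := hko
    by_cases hmem : ψ ∈ orb P K (θ : K → ℂ)
    · rw [hdgn ψ hmem] at hψ2
      constructor <;> nlinarith
    · have h2 := hsub (insert ψ (orb P K (θ : K → ℂ)))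
      rw [Finset.sum_insert hmem, hsq] at h2
      have h5 : 2 ^ 2 ≤ dg ψ ^ 2 := Nat.pow_le_pow_left hψ2 2
      have h7 : 1 ≤ n ^ 2 := Nat.one_le_pow _ _ hn0
      have h6 : (orb P K (θ : K → ℂ)).card ≤ (orb P K (θ : K → ℂ)).card * n ^ 2 := Nat.le_mul_of_pos_right _ h7
      have h8 : n ^ 2 ≤ (orb P K (θ : K → ℂ)).card * n ^ 2 := Nat.le_mul_of_pos_left _ (card_orb_pos θ)
      have h9 : n ≤ n ^ 2 := Nat.le_self_pow (by norm_num) _
      constructor <;> omega
  obtain ⟨θ₀, hθ₀⟩ := Finset.card_eq_one.1 hk1.1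
  have h10 : θ = θ₀ := by
    have := self_mem_orb (P := P) θ
    rwa [hθ₀, Finset.mem_singleton] at this
  subst h10
  have hst : ∀ n ∈ normalizer ((P : Subgroup G) : Set G), tw (θ : K → ℂ) n = θ := by
    intro m hm
    have h1 : (⟨tw (θ : K → ℂ) m, isIrr_tw hK θ.2 hm⟩ : IrrCharacter K) ∈ orb P K (θ : K → ℂ) :=
      mem_orb.2 ⟨m, hm, rfl⟩
    rw [hθ₀, Finset.mem_singleton] at h1
    exact congrArg Subtype.val h1
  obtain ⟨δ, s, h1, h2, h3, h4⟩ := exc_half hK hP θ.2 hst he h2e hodd hθ hc hd hn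
  refine ⟨δ * n, s, ?_, h2, fun x hx => ?_, ?_⟩
  · have : n = 1 ∨ n = 2 := by omega
    rcases this with rfl | rfl <;> rcases h1 with rfl | rfl <;> norm_num
  · have h5 := h3 x hx 1
    rw [coe_one, mul_one, hn] at h5
    rw [h5]
    push_cast
    ring
  · have h6 : (d : ℤ) - δ * n * e = d - δ * (e * n) := by ring
    rw [h6]
    exact h4

end Cfsg.Agent.H676.Deg
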