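import Mathlib
import Cfsg.Agent.H66.LD.Three
import Cfsg.Agent.H676.Deg.Half
import Cfsg.Agent.H788.RatB.Rat

/-!
# The three characters of a block with defect group `⟨u⟩` of order 3: the action of the Galois group (helper676)

* `Trio` : the situation of `H66.LD.Three.three_sorted` (`C(u) = ⟨u⟩ × T`, `θ ∈ Irr T` vanishing on the 3-singular
  elements, the characters `χ 0, χ 1, χ 2`);
* `Trio.mem` : an irreducible `ψ` with `ψ (u t) = c θ t`, `c ≠ 0` is one of the three characters;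
* `Trio.fix` : if the three degrees are distinct and `θ (t ^ m) = θ t` then `χ i (g ^ m) = χ i g`;
* `Trio.const` : if `p ∤ |T|` then `χ i` is constant on `P \ 1` (`|P| = p`);
* `Trio.rat` : if `θ (t ^ m) = θ t` for all `m ≡ 1 mod q` then `χ i g` is rational for all `g` of order prime to `q`;
* `Trio.zero` : `χ i (x z) = 0` for `x` of order `p ∤ |T|`, `p ≠ 3`, `z` of order `3` commuting with `x`.
-/

set_option autoImplicit false
set_option linter.unusedSectionVars false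

open Cfsg
open scoped ComplexConjugate

namespace Cfsg.Agent.H676.Deg

open Subgroup
open Cfsg.Agent.Characters.Core

universe u

variable {G : Type u} [Group G] [Finite G]

/-- the three characters of helper66 -/
structure Trio {G : Type u} [Group G] [Finite G] (u : G) (T : Subgroup G) (θ : IrrCharacter T)
    (χ : Fin 3 → IrrCharacter G) (s : ℤ) : Prop where
  hu : orderOf u = 3
  comm : ∀ t ∈ T, t * u = u * t
  card : Nat.card (centralizer ({u} : Set G)) = 3 * Nat.card T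
  notMem : u ∉ T
  inv : ∃ n : G, n * u * n⁻¹ = u⁻¹ ∧ ∀ t ∈ T, n * t * n⁻¹ = t
  zero' : ∀ t : T, 3 ∣ orderOf t → (θ : T → ℂ) t = 0
  inj : Function.Injective χ
  hs : s = 1 ∨ s = -1
  val : ∀ t : T, ¬ 3 ∣ orderOf t → (χ 0 : G → ℂ) (u * t) = s * (θ : T → ℂ) t ∧
    (χ 1 : G → ℂ) (u * t) = s * (θ : T → ℂ) t ∧ (χ 2 : G → ℂ) (u * t) = -s * (θ : T → ℂ) t
  deg : charDegree (χ 0 : G → ℂ) + charDegree (χ 1 : G → ℂ) = charDegree (χ 2 : G → ℂ)
  van : ∀ g : G, 3 ∣ orderOf g → (∀ i, (χ i : G → ℂ) g = 0) ∨ ∃ t : T, ¬ 3 ∣ orderOf t ∧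
    ∃ h : G, h * (u * t) * h⁻¹ = g

variable {w : G} {T : Subgroup G} {θ : IrrCharacter T} {χ : Fin 3 → IrrCharacter G} {s : ℤ}

theorem Trio.le (h : Trio w T θ χ s) : T ≤ centralizer ({w} : Set G) := by
  intro t ht
  rw [mem_centralizer_singleton_iff]
  exact h.comm t ht

theorem Trio.exists_sign (h : Trio w T θ χ s) (i : Fin 3) : ∃ ε : ℤ, (ε = 1 ∨ ε = -1) ∧
    ∀ t : T, ¬ 3 ∣ orderOf t → (χ i : G → ℂ) (w * t) = ε * (θ : T → ℂ) t := by
  fin_cases i
  · exact ⟨s, h.hs, fun t ht => (h.val t ht).1⟩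
  · exact ⟨s, h.hs, fun t ht => (h.val t ht).2.1⟩
  · refine ⟨-s, ?_, fun t ht => ?_⟩
    · rcases h.hs with h | h <;> rw [h] <;> norm_num
    · have := (h.val t ht).2.2
      push_cast
      exact this

/-- the unnormalized multiplicity of `θ` in `t ↦ ψ (u t)` -/
noncomputable def amp (w : G) (T : Subgroup G) (θ : T → ℂ) (ψ : G → ℂ) : ℂ :=
  letI := Fintype.ofFinite T
  ∑ t : T, ψ (w * t) * conj (θ t)

theorem amp_eq [Fintype T] (θ : T → ℂ) (ψ : G → ℂ) : amp w T θ ψ = ∑ t : T, ψ (w * t) * conj (θ t) := by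
  unfold amp
  refine Finset.sum_congr ?_ fun _ _ => rfl
  ext
  simp

/-- the amplitude of a multiple of `θ` -/
theorem amp_of_val (h : Trio w T θ χ s) {ψ : G → ℂ} {c : ℂ}
    (hψ : ∀ t : T, ¬ 3 ∣ orderOf t → ψ (w * t) = c * (θ : T → ℂ) t) :
    amp w T (θ : T → ℂ) ψ = c * Nat.card T := by
  have := Fintype.ofFinite T
  rw [amp_eq]
  have h1 : ∀ t : T, ψ (w * t) * conj ((θ : T → ℂ) t) = c * ((θ : T → ℂ) t * conj ((θ : T → ℂ) t)) := by
    intro t
    by_cases ht : 3 ∣ orderOf t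
    · rw [h.zero' t ht, map_zero, mul_zero, mul_zero, mul_zero]
    · rw [hψ t ht]
      ring
  rw [Finset.sum_congr rfl fun t _ => h1 t, ← Finset.mul_sum]
  congr 1
  have h2 := classInner_irr_self θ.2
  rw [classInner_def, inv_mul_eq_iff_eq_mul₀ card_ne_zero_complex, mul_one] at h2
  exact h2

theorem conj_eq_iff (h : Trio w T θ χ s) {a b : T} (ha : ¬ 3 ∣ orderOf a) (hb : ¬ 3 ∣ orderOf b) (g : G) :
    g * (w * a) * g⁻¹ = w * b ↔ g ∈ centralizer ({w} : Set G) ∧ g * a * g⁻¹ = b := by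
  constructor
  · intro hg
    -- a power fixing `w` and killing `a`, `b`
    have hcop : Nat.Coprime (orderOf a * orderOf b) 3 :=
      Nat.Coprime.mul_left ((Nat.prime_three.coprime_iff_not_dvd).2 ha).symm
        ((Nat.prime_three.coprime_iff_not_dvd).2 hb).symm
    obtain ⟨k, -, hk⟩ := Nat.exists_mul_mod_eq_one_of_coprime hcop (by norm_num)
    have hpow : ∀ c : T, orderOf c ∣ orderOf a * orderOf b → (w * (c : G)) ^ (orderOf a * orderOf b * k) = w := by
      intro c hc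
      have h1 : Commute w (c : G) := (h.comm c c.2).symm
      rw [h1.mul_pow]
      have h2 : (c : G) ^ (orderOf a * orderOf b * k) = 1 := by
        rw [← orderOf_dvd_iff_pow_eq_one, Subgroup.orderOf_coe]
        exact hc.mul_right k
      rw [h2, mul_one]
      have h3 := pow_mod_orderOf w (orderOf a * orderOf b * k)
      rw [h.hu, hk, pow_one] at h3
      exact h3.symm
    have h1 : g * w * g⁻¹ = w := by
      have h2 : (g * (w * a) * g⁻¹) ^ (orderOf a * orderOf b * k) = w := by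
        rw [hg]
        exact hpow b (dvd_mul_left _ _)
      rw [conj_pow, hpow a (dvd_mul_right _ _)] at h2
      exact h2
    refine ⟨?_, ?_⟩
    · rw [mem_centralizer_singleton_iff]
      exact mul_inv_eq_iff_eq_mul.1 h1
    · have h3 : g * (w * a) * g⁻¹ = (g * w * g⁻¹) * (g * a * g⁻¹) := by group
      rw [h3, h1] at hg
      exact mul_left_cancel hg
  · rintro ⟨h1, h2⟩
    rw [mem_centralizer_singleton_iff] at h1
    calc g * (w * a) * g⁻¹ = (g * w) * a * g⁻¹ := by group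
      _ = w * (g * a * g⁻¹) := by rw [h1]; group
      _ = w * b := by rw [h2]

/-- the elements of `C(u)` act on `T` by inner automorphisms of `T` -/
theorem exists_conj (h : Trio w T θ χ s) {g : G} (hg : g ∈ centralizer ({w} : Set G)) :
    ∃ k ∈ T, ∀ a ∈ T, g * a * g⁻¹ = k * a * k⁻¹ := by
  have : Fact (Nat.Prime 3) := ⟨Nat.prime_three⟩
  obtain ⟨E, hE⟩ := Cfsg.Agent.H66.LD.Three.exists_equiv (p := 3) h.hu rfl h.le h.card h.notMem
  obtain ⟨⟨x, t⟩, hxt⟩ := E.surjective ⟨g, hg⟩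
  have h1 := hE x t
  rw [hxt] at h1
  have h1 : g = x * t := h1
  refine ⟨t, t.2, fun a ha => ?_⟩
  obtain ⟨k, hk⟩ := mem_zpowers_iff.1 x.2
  have h2 : Commute (x : G) (t * a * (t : G)⁻¹) := by
    rw [← hk]
    have h3 : Commute w (t * a * (t : G)⁻¹) := (h.comm _ (mul_mem (mul_mem t.2 ha) (inv_mem t.2))).symm
    exact h3.zpow_left k
  rw [h1]
  calc (x : G) * t * a * ((x : G) * t)⁻¹ = x * (t * a * (t : G)⁻¹) * (x : G)⁻¹ := by group
    _ = (t * a * (t : G)⁻¹) * x * (x : G)⁻¹ := by rw [h2.eq]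
    _ = t * a * (t : G)⁻¹ := by group

theorem sum_amp [Fintype (IrrCharacter G)] (h : Trio w T θ χ s) :
    ∑ ψ : IrrCharacter G, amp w T (θ : T → ℂ) (ψ : G → ℂ) * conj (amp w T (θ : T → ℂ) (ψ : G → ℂ)) =
      3 * (Nat.card T : ℂ) ^ 2 := by
  classical
  have := Fintype.ofFinite T
  have := Fintype.ofFinite G
  have h1 : ∀ ψ : IrrCharacter G, amp w T (θ : T → ℂ) (ψ : G → ℂ) * conj (amp w T (θ : T → ℂ) (ψ : G → ℂ)) =
      ∑ a : T, ∑ b : T, conj ((θ : T → ℂ) a) * (θ : T → ℂ) b *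
        ((ψ : G → ℂ) (w * a) * conj ((ψ : G → ℂ) (w * b))) := by
    intro ψ
    rw [amp_eq, map_sum, Finset.sum_mul_sum]
    refine Finset.sum_congr rfl fun a _ => Finset.sum_congr rfl fun b _ => ?_
    rw [map_mul, Complex.conj_conj]
    ring
  rw [Finset.sum_congr rfl fun ψ _ => h1 ψ, Finset.sum_comm]
  have h2 : ∀ a : T, ∑ ψ : IrrCharacter G, ∑ b : T, conj ((θ : T → ℂ) a) * (θ : T → ℂ) b *
        ((ψ : G → ℂ) (w * a) * conj ((ψ : G → ℂ) (w * b))) =
      3 * (Nat.card T : ℂ) * ((θ : T → ℂ) a * conj ((θ : T → ℂ) a)) := by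
    intro a
    by_cases ha : 3 ∣ orderOf a
    · have h0 := h.zero' a ha
      rw [h0]
      simp
    rw [Finset.sum_comm]
    have h3 : ∀ b : T, ∑ ψ : IrrCharacter G, conj ((θ : T → ℂ) a) * (θ : T → ℂ) b *
        ((ψ : G → ℂ) (w * a) * conj ((ψ : G → ℂ) (w * b))) =
        conj ((θ : T → ℂ) a) * ∑ g : G, if g ∈ centralizer ({w} : Set G) ∧ g * a * g⁻¹ = b then (θ : T → ℂ) b
          else 0 := by
      intro b
      rw [← Finset.mul_sum, Cfsg.Agent.SmallSimple.ThetaOrtho.sum_irr_eq_card, mul_assoc, Finset.mul_sum]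
      congr 1
      refine Finset.sum_congr rfl fun g _ => ?_
      by_cases hb : 3 ∣ orderOf b
      · rw [h.zero' b hb, zero_mul, ite_self]
      · simp only [conj_eq_iff h ha hb g]
        rw [mul_ite, mul_one, mul_zero]
    rw [Finset.sum_congr rfl fun b _ => h3 b, ← Finset.mul_sum, Finset.sum_comm]
    have h4 : ∀ g : G, (∑ b : T, if g ∈ centralizer ({w} : Set G) ∧ g * a * g⁻¹ = b then (θ : T → ℂ) b else 0) =
        if g ∈ centralizer ({w} : Set G) then (θ : T → ℂ) a else 0 := by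
      intro g
      by_cases hg : g ∈ centralizer ({w} : Set G)
      · rw [if_pos hg]
        obtain ⟨k, hk, hk2⟩ := exists_conj h hg
        have h5 : g * a * g⁻¹ = ((⟨k, hk⟩ * a * ⟨k, hk⟩⁻¹ : T) : G) := hk2 a a.2
        have h6 : ∀ b : T, (g ∈ centralizer ({w} : Set G) ∧ g * a * g⁻¹ = b) ↔ (⟨k, hk⟩ * a * ⟨k, hk⟩⁻¹ : T) = b := by
          intro b
          rw [h5, Subtype.ext_iff]
          exact and_iff_right hg
        simp only [h6]
        rw [Finset.sum_ite_eq, if_pos (Finset.mem_univ _)]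
        exact isIrr_isClassFunction θ.2 a ⟨k, hk⟩
      · rw [if_neg hg]
        exact Finset.sum_eq_zero fun b _ => if_neg fun h => hg h.1
    rw [Finset.sum_congr rfl fun g _ => h4 g, ← Finset.sum_filter, Finset.sum_const, nsmul_eq_mul]
    have h7 : ((Finset.univ.filter fun g : G => g ∈ centralizer ({w} : Set G)).card : ℂ) = 3 * (Nat.card T : ℂ) := by
      have h9 : (Finset.univ.filter fun g : G => g ∈ centralizer ({w} : Set G)).card = 3 * Nat.card T := by
        rw [← Fintype.card_subtype, ← h.card, Nat.card_eq_fintype_card]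
      rw [h9]
      push_cast
      rfl
    rw [h7]
    ring
  rw [Finset.sum_congr rfl fun a _ => h2 a, ← Finset.mul_sum]
  have h3 := classInner_irr_self θ.2
  rw [classInner_def, inv_mul_eq_iff_eq_mul₀ card_ne_zero_complex, mul_one] at h3
  rw [h3]
  ring

/-- **Uniqueness of the three characters.** -/
theorem Trio.mem (h : Trio w T θ χ s) (ψ : IrrCharacter G) {c : ℂ} (hc : c ≠ 0)
    (hψ : ∀ t : T, ¬ 3 ∣ orderOf t → (ψ : G → ℂ) (w * t) = c * (θ : T → ℂ) t) : ∃ i, ψ = χ i := by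
  classical
  by_contra hcon
  push Not at hcon
  have : Finite (IrrCharacter G) := finite_irr
  have := Fintype.ofFinite (IrrCharacter G)
  have h1 := sum_amp h
  have h2 : ∑ ψ : IrrCharacter G, Complex.normSq (amp w T (θ : T → ℂ) (ψ : G → ℂ)) = 3 * (Nat.card T : ℝ) ^ 2 := by
    simp only [Complex.mul_conj] at h1
    exact_mod_cast h1
  have h3 : ∀ i, Complex.normSq (amp w T (θ : T → ℂ) (χ i : G → ℂ)) = (Nat.card T : ℝ) ^ 2 := by
    intro i
    obtain ⟨ε, h4, h5⟩ := h.exists_sign i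
    rw [amp_of_val h h5, map_mul, Complex.normSq_natCast]
    rcases h4 with rfl | rfl <;> simp [pow_two]
  have h4 : Complex.normSq (amp w T (θ : T → ℂ) (ψ : G → ℂ)) = Complex.normSq c * (Nat.card T : ℝ) ^ 2 := by
    rw [amp_of_val h hψ, map_mul, Complex.normSq_natCast, pow_two]
  have hnot : ψ ∉ Finset.univ.image χ := by
    intro h5
    obtain ⟨i, -, hi⟩ := Finset.mem_image.1 h5
    exact hcon i hi.symm
  have h5 := Finset.sum_le_sum_of_subset_of_nonneg (Finset.subset_univ (insert ψ (Finset.univ.image χ)))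
    (f := fun ψ : IrrCharacter G => Complex.normSq (amp w T (θ : T → ℂ) (ψ : G → ℂ)))
    (fun _ _ _ => Complex.normSq_nonneg _)
  rw [Finset.sum_insert hnot, Finset.sum_image (fun _ _ _ _ h6 => h.inj h6), h2,
    Finset.sum_congr rfl fun i _ => h3 i, h4] at h5
  simp only [Finset.sum_const, Finset.card_univ, Fintype.card_fin, nsmul_eq_mul] at h5
  have h6 : 0 < Complex.normSq c * (Nat.card T : ℝ) ^ 2 := by
    have h7 : (0 : ℝ) < Nat.card T := by exact_mod_cast Nat.card_pos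
    exact mul_pos (Complex.normSq_pos.2 hc) (pow_pos h7 2)
  push_cast at h5
  linarith

/-- **The Galois group fixes the three characters.** -/
theorem Trio.fix (h : Trio w T θ χ s) (hdeg : ∀ i j, (χ i : G → ℂ) 1 = (χ j : G → ℂ) 1 → i = j) {m : ℕ}
    (hm : m.Coprime (Nat.card G)) (hθ : ∀ t : T, ¬ 3 ∣ orderOf t → (θ : T → ℂ) (t ^ m) = (θ : T → ℂ) t) (i : Fin 3)
    (g : G) : (χ i : G → ℂ) (g ^ m) = (χ i : G → ℂ) g := by
  let ψ : IrrCharacter G := ⟨fun g => (χ i : G → ℂ) (g ^ m), Cfsg.Agent.H788.RatB.isIrr_pow hm (χ i).2⟩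
  obtain ⟨ε, h1, h2⟩ := h.exists_sign i
  obtain ⟨n, hn, hnT⟩ := h.inv
  have hε : (ε : ℂ) ≠ 0 := by
    rcases h1 with rfl | rfl <;> norm_num
  have h3m : m.Coprime 3 := by
    refine hm.coprime_dvd_right ?_
    rw [← h.hu]
    exact orderOf_dvd_natCard w
  have hreg : ∀ t : T, ¬ 3 ∣ orderOf t → ¬ 3 ∣ orderOf (t ^ m) := fun t ht h4 => ht (h4.trans (orderOf_pow_dvd m))
  obtain ⟨j, hj⟩ := h.mem ψ hε (fun t ht => by
    show (χ i : G → ℂ) ((w * t) ^ m) = _
    have hcom : Commute w (t : G) := (h.comm t t.2).symm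
    rw [hcom.mul_pow]
    have h5 := h2 (t ^ m) (hreg t ht)
    rw [hθ t ht, coe_pow] at h5
    have h6 : m % 3 = 1 ∨ m % 3 = 2 := by
      have : m % 3 ≠ 0 := by
        intro h7
        have h8 : 3 ∣ m := Nat.dvd_of_mod_eq_zero h7
        have h9 := Nat.Coprime.eq_one_of_dvd h3m.symm h8
        norm_num at h9
      omega
    have h7 := pow_mod_orderOf w m
    rw [h.hu] at h7
    rcases h6 with h8 | h8
    · rw [h8, pow_one] at h7
      rw [← h7]
      exact h5
    · have h9 : w ^ m = w⁻¹ := by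
        rw [← h7, h8, eq_inv_iff_mul_eq_one, ← pow_succ]
        exact orderOf_dvd_iff_pow_eq_one.1 (by rw [h.hu])
      rw [h9, ← h5]
      have h10 : w⁻¹ * (t : G) ^ m = n * (w * (t : G) ^ m) * n⁻¹ := by
        have h11 := hnT _ (pow_mem t.2 m)
        calc w⁻¹ * (t : G) ^ m = (n * w * n⁻¹) * (n * (t : G) ^ m * n⁻¹) := by rw [hn, h11]
          _ = n * (w * (t : G) ^ m) * n⁻¹ := by group
      rw [h10]
      exact isIrr_isClassFunction (χ i).2 _ n)
  have h4 : (χ i : G → ℂ) 1 = (χ j : G → ℂ) 1 := by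
    rw [← hj]
    show _ = (χ i : G → ℂ) (1 ^ m)
    rw [one_pow]
  have h5 := hdeg i j h4
  subst h5
  exact congrFun (congrArg Subtype.val hj) g

/-- **`χ (x z) = 0`** -/
theorem Trio.zero (h : Trio w T θ χ s) {p : ℕ} (hp : p.Prime) (hp3 : p ≠ 3) (hpT : ¬ p ∣ Nat.card T) {x z : G}
    (hx : orderOf x = p) (hz : orderOf z = 3) (hc : Commute x z) (i : Fin 3) : (χ i : G → ℂ) (x * z) = 0 := by
  have ho : orderOf (x * z) = p * 3 := by
    rw [hc.orderOf_mul_eq_mul_orderOf_of_coprime, hx, hz]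
    rw [hx, hz]
    exact (Nat.coprime_primes hp Nat.prime_three).2 hp3
  rcases h.van (x * z) (by rw [ho]; exact dvd_mul_left _ _) with h1 | ⟨t, ht, g, hg⟩
  · exact h1 i
  · exfalso
    apply hpT
    have hcom : Commute w (t : G) := (h.comm t t.2).symm
    have h2 : orderOf (w * (t : G)) = 3 * orderOf t := by
      rw [hcom.orderOf_mul_eq_mul_orderOf_of_coprime, h.hu, Subgroup.orderOf_coe]
      rw [h.hu, Subgroup.orderOf_coe]
      exact (Nat.prime_three.coprime_iff_not_dvd).2 ht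
    have h3 : orderOf (x * z) = orderOf (w * (t : G)) := by
      rw [← hg]
      exact MulEquiv.orderOf_eq (MulAut.conj g) (w * t)
    rw [h2, ho, mul_comm] at h3
    have h4 : p = orderOf t := Nat.eq_of_mul_eq_mul_left (by norm_num) h3
    rw [h4]
    exact orderOf_dvd_natCard t

/-- an exponent with prescribed residues -/
theorem exists_exp {q N a b : ℕ} (h : q.Coprime N) (ha : a.Coprime q) (hb : b.Coprime N) :
    ∃ m : ℕ, m ≡ a [MOD q] ∧ m ≡ b [MOD N] ∧ m.Coprime (q * N) := by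
  obtain ⟨m, h1, h2⟩ := Nat.chineseRemainder h a b
  refine ⟨m, h1, h2, Nat.Coprime.mul_right ?_ ?_⟩
  · rw [Nat.coprime_iff_gcd_eq_one, h1.gcd_eq]
    exact ha
  · rw [Nat.coprime_iff_gcd_eq_one, h2.gcd_eq]
    exact hb

theorem pow_eq_of_modEq {H : Type*} [Group H] {g : H} {m n N : ℕ} (h : m ≡ n [MOD N]) (hg : orderOf g ∣ N) :
    g ^ m = g ^ n := pow_eq_pow_iff_modEq.2 (h.of_dvd hg)

open Cfsg.Agent.SmallSimple.ThetaSetup

/-- **`χ i` is constant on `P \ 1`.** -/
theorem Trio.const (h : Trio w T θ χ s) (hdeg : ∀ i j, (χ i : G → ℂ) 1 = (χ j : G → ℂ) 1 → i = j) {p : ℕ}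
    [Fact p.Prime] {P : Sylow p G} {K : Subgroup G} (hK : IsComp p (P : Subgroup G) K) (hP : Nat.card P = p)
    (hpT : ¬ p ∣ Nat.card T) (i : Fin 3) : Const P K (χ i : G → ℂ) := by
  have hp : p.Prime := Fact.out
  obtain ⟨N, hN⟩ : p ∣ Nat.card G := by
    rw [← hP]
    exact Subgroup.card_subgroup_dvd_card _
  have hpN : p.Coprime N := by
    have h2 : (P : Subgroup G).index = N := by
      have h3 := (P : Subgroup G).card_mul_index
      rw [hN] at h3
      have h4 : Nat.card (P : Subgroup G) = p := hP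
      rw [h4] at h3
      exact Nat.eq_of_mul_eq_mul_left hp.pos h3
    have h3 := P.card_coprime_index
    rw [h2] at h3
    have h4 : Nat.card (P : Subgroup G) = p := hP
    rwa [h4] at h3
  have hNdvd : ∀ k : ℕ, k ∣ Nat.card G → ¬ p ∣ k → k ∣ N := by
    intro k h1 h2
    rw [hN] at h1
    exact (Nat.Coprime.dvd_of_dvd_mul_left ((hp.coprime_iff_not_dvd).2 h2).symm h1)
  intro x x' hx hx' y
  obtain ⟨a, ha⟩ := mem_powers_iff_mem_zpowers.2 (gen_of_prime hp hP x hx x')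
  have ha : x ^ a = x' := ha
  have hap : a.Coprime p := by
    rw [Nat.coprime_comm, hp.coprime_iff_not_dvd]
    intro h1
    apply hx'
    rw [← ha]
    refine orderOf_dvd_iff_pow_eq_one.1 (dvd_trans ?_ h1)
    have h2 : orderOf x ∣ Nat.card P := orderOf_dvd_natCard x
    rwa [hP] at h2
  obtain ⟨m, h1, h2, h3⟩ := exists_exp hpN hap (Nat.coprime_one_left N)
  rw [← hN] at h3
  have h4 := h.fix hdeg h3 (fun t _ => by
    rw [pow_eq_of_modEq h2 (g := t), pow_one]
    refine hNdvd _ ((orderOf_dvd_natCard t).trans (Subgroup.card_subgroup_dvd_card T)) fun h5 => hpT ?_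
    exact h5.trans (orderOf_dvd_natCard t)) i ((x : G) * y)
  have hcom : Commute (x : G) (y : G) := hK.comm x.2 y.2
  rw [hcom.mul_pow] at h4
  have h5 : (x : G) ^ m = x' := by
    rw [← ha, coe_pow]
    refine pow_eq_of_modEq h1 ?_
    rw [orderOf_P hP hx]
  have h6 : (y : G) ^ m = y := by
    rw [pow_eq_of_modEq h2 (g := (y : G)), pow_one]
    exact hNdvd _ (orderOf_dvd_natCard _) ((hK y).1 y.2).2
  rw [h5, h6] at h4
  exact h4.symm

/-- **`χ i` is rational on the `q`-regular elements.** -/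
theorem Trio.rat (h : Trio w T θ χ s) (hdeg : ∀ i j, (χ i : G → ℂ) 1 = (χ j : G → ℂ) 1 → i = j) {q : ℕ}
    (hq : q.Prime)
    (hθ : ∀ m : ℕ, m.Coprime (Nat.card G) → m ≡ 1 [MOD q] → ∀ t : T, ¬ 3 ∣ orderOf t → (θ : T → ℂ) (t ^ m) = (θ : T → ℂ) t)
    (hq2 : ¬ q ^ 2 ∣ Nat.card G) (i : Fin 3) {g : G} (hg : ¬ q ∣ orderOf g) :
    ∃ r : ℚ, (χ i : G → ℂ) g = r := by
  rw [Cfsg.Agent.Characters.GaloisBasic.exists_rat_iff (isIrr_isCharacter (χ i).2)]
  intro m hm
  by_cases hqG : q ∣ Nat.card G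
  · obtain ⟨N, hN⟩ := hqG
    have hqN : q.Coprime N := by
      rw [hq.coprime_iff_not_dvd]
      rintro ⟨k, hk⟩
      apply hq2
      rw [hN, hk]
      exact ⟨k, by ring⟩
    have hmN : m.Coprime N := by
      rw [hN] at hm
      exact hm.coprime_mul_left_right
    obtain ⟨m', h1, h2, h3⟩ := exists_exp hqN (Nat.coprime_one_left q) hmN
    rw [← hN] at h3
    have h4 := h.fix hdeg h3 (hθ m' h3 h1) i g
    rw [← h4, pow_eq_of_modEq h2]
    have h5 := orderOf_dvd_natCard g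
    rw [hN] at h5
    exact Nat.Coprime.dvd_of_dvd_mul_left ((hq.coprime_iff_not_dvd).2 hg).symm h5
  · have hqN : q.Coprime (Nat.card G) := (hq.coprime_iff_not_dvd).2 hqG
    obtain ⟨m', h1, h2, h3⟩ := exists_exp hqN (Nat.coprime_one_left q) hm
    have h3' : m'.Coprime (Nat.card G) := h3.coprime_mul_left_right
    have h4 := h.fix hdeg h3' (hθ m' h3' h1) i g
    rw [← h4, pow_eq_of_modEq h2 (orderOf_dvd_natCard g)]

open Cfsg.Agent.Blocks.Basic Cfsg.Agent.Blocks.Local in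
/-- **helper66's theorem gives a `Trio`.** -/
theorem exists_trio {M : Ideal AlgInt} (hM : IsPModular 3 M) {u : G} (hu : orderOf u = 3)
    {C T : Subgroup G} (hC : C = Subgroup.centralizer ({u} : Set G)) (hTC : T ≤ C)
    (hcard : Nat.card C = 3 * Nat.card T) (huT : u ∉ T) {n : G} (hn : n * u * n⁻¹ = u⁻¹)
    (hnT : ∀ t ∈ T, n * t * n⁻¹ = t) (θ : IrrCharacter T)
    (hθ : (charDegree (θ : T → ℂ)).factorization 3 = (Nat.card T).factorization 3) :
    ∃ (B : Set (IrrCharacter G)) (θ' : IrrCharacter C) (χ : Fin 3 → IrrCharacter G) (s : ℤ),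
      (∀ (c : C) (x : G) (t : T), x ∈ Subgroup.zpowers u → (c : G) = x * t →
        (θ' : C → ℂ) c = (θ : T → ℂ) t) ∧
      IsPBlock M B ∧ IsDefectGroup 3 M B (Subgroup.zpowers u) ∧
      IsInducedBlock M C (blockOf M (θ' : C → ℂ)) B ∧ (∀ i, χ i ∈ B) ∧ Trio u T θ χ s ∧
      (∀ i, (charDegree (χ i : G → ℂ)).factorization 3 + 1 = (Nat.card G).factorization 3) ∧
      (∀ i, 3 * Nat.card T * charDegree (χ i : G → ℂ) ∣ Nat.card G * charDegree (θ : T → ℂ)) := by
  obtain ⟨B, θ', χ, s, h1, h2, h3, h4, h5, h6, h7, h8, h9, h10, h11, h12, h13⟩ :=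
    Cfsg.Agent.H66.LD.Three.three_sorted hM hu hC hTC hcard huT hn hnT θ hθ
  have hF : Fact (Nat.Prime 3) := ⟨Nat.prime_three⟩
  refine ⟨B, θ', χ, s, h1, h2, h3, h4, h6, ⟨hu, fun t ht => ?_, hC ▸ hcard, huT, ⟨n, hn, hnT⟩, fun t ht => ?_, h5, h7, h8,
    h10, h11⟩, h12, h13⟩
  · have h14 := hTC ht
    rw [hC, mem_centralizer_singleton_iff] at h14
    exact h14
  · exact Cfsg.Agent.H66.LD.Three.eq_zero_of_dvd hM θ hθ ht

end Cfsg.Agent.H676.Deg
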