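import Mathlib
import Cfsg.Agent.H676.Deg.Half
import Cfsg.Agent.H788.RatB.Rat

/-!
# The prime 31 in `Th` and in the Monster (helper676, S4910, row M)

* `eq_of_part` : a character which is not constant on `P \ 1` is determined by its values there;
* `exists_self` : `C(y) = ⟨y⟩`: a Sylow subgroup with trivial complement;
* `gal31` : `θ (t ^ m) = θ t` for `m ≡ 1 mod 31` (`θ y` a root of `z² + z + 8` for all `y` of order 31, `C(y) = ⟨y⟩`);
* `rel31_T` : then `|N(P) : C(P)| = 15` if `θ 1 = 767637`;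
* `stable_six` : `|K| = 6`, `K` nonabelian: the irreducible characters of `K` are `N(P)`-stable.
-/

set_option autoImplicit false
set_option linter.unusedSectionVars false

open Cfsg
open scoped ComplexConjugate

namespace Cfsg.Agent.H676.Deg

open Subgroup
open Cfsg.Agent.Characters.Core Cfsg.Agent.SmallSimple.PrimeDual
open Cfsg.Agent.SmallSimple.ThetaSetup Cfsg.Agent.SmallSimple.ThetaOrtho
open Cfsg.Agent.SmallSimple.TheoremC Cfsg.Agent.SmallSimple.TheoremCCor

universe u

variable {G : Type u} [Group G] [Finite G] {p : ℕ} [Fact p.Prime] {P : Sylow p G} {K : Subgroup G}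

theorem card_stabAct_dvd (hK : IsComp p (P : Subgroup G) K) (hP : Nat.card P = p) (θ : K → ℂ) :
    Nat.card (stabAct hK θ) ∣ p - 1 := by
  have hp : p.Prime := Fact.out
  have h1 := Subgroup.card_subgroup_dvd_card (stabAct hK θ)
  have h2 : Nat.card (MulAut P) = p - 1 := by
    have : IsCyclic P := isCyclic_of_prime_card hP
    rw [IsCyclic.card_mulAut, hP, Nat.totient_prime hp]
  rwa [h2] at h1

/-- `|N(P) : C(P)|` divides `p - 1`. -/
theorem relIndex_dvd (hK : IsComp p (P : Subgroup G) K) (hP : Nat.card P = p) :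
    (centralizer ((P : Subgroup G) : Set G)).relIndex (normalizer ((P : Subgroup G) : Set G)) ∣ p - 1 := by
  have h1 := card_stabAct_mul_card_orb hK hP (θ := (1 : K → ℂ)) isIrr_one
  rw [orb_eq_of_one hK (⟨1, isIrr_one⟩ : IrrCharacter K) rfl, Finset.card_singleton, mul_one] at h1
  rw [← h1]
  exact card_stabAct_dvd hK hP 1

/-- **Uniqueness.** -/
theorem eq_of_part (hK : IsComp p (P : Subgroup G) K) (hP : Nat.card P = p) {θ : K → ℂ} (hθ : IsIrrCharacter K θ)
    {χ χ' : IrrCharacter G} (h : ∀ x : P, x ≠ 1 → part θ (χ : G → ℂ) x = part θ (χ' : G → ℂ) x)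
    (hne : ∃ x x' : P, x ≠ 1 ∧ x' ≠ 1 ∧ part θ (χ : G → ℂ) x ≠ part θ (χ : G → ℂ) x') : χ = χ' := by
  classical
  have hp : p.Prime := Fact.out
  obtain ⟨t, ht⟩ := card_stabAct_dvd hK hP θ
  obtain ⟨NE, X, ε, d, S, h1, h2, h3, h4, h5, h6, h7, h8, h9, -, -⟩ := theoremC hK hP hθ rfl ht.symm
  obtain ⟨x, x', hx, hx', hxx⟩ := hne
  have hd0 : (d : ℂ) ≠ 0 := by
    rcases h6 with rfl | rfl <;> norm_num
  have hO : χ ∈ Over P θ := by
    by_contra hc
    rw [part_eq_zero hc hx, part_eq_zero hc hx'] at hxx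
    exact hxx rfl
  have hO' : χ' ∈ Over P θ := by
    by_contra hc
    rw [h x hx, h x' hx', part_eq_zero hc hx, part_eq_zero hc hx'] at hxx
    exact hxx rfl
  have hX : χ ∈ X := by
    rcases (h1 χ).1 hO with h10 | h10
    · exact absurd (by rw [h7 χ h10 x hx, h7 χ h10 x' hx']) hxx
    · exact h10
  have hX' : χ' ∈ X := by
    rcases (h1 χ').1 hO' with h10 | h10
    · rw [h x hx, h x' hx'] at hxx
      exact absurd (by rw [h7 χ' h10 x hx, h7 χ' h10 x' hx']) hxx
    · exact h10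
  by_contra hcon
  have hdis := h9 χ hX χ' hX' hcon
  obtain ⟨e1, e2, -, e4⟩ := h8 χ hX
  obtain ⟨e1', e2', -, e4'⟩ := h8 χ' hX'
  have := Fintype.ofFinite P
  have hs := sum_period (S χ) (S χ')
  rw [Finset.disjoint_iff_inter_eq_empty.1 hdis, Finset.card_empty, Nat.cast_zero, zero_mul] at hs
  -- all the terms are squares of absolute values
  have hterm : ∀ y : P, (∑ l ∈ S χ, ((l y : ℂˣ) : ℂ)) * conj (∑ l ∈ S χ', ((l y : ℂˣ) : ℂ)) =
      ((Complex.normSq (∑ l ∈ S χ, ((l y : ℂˣ) : ℂ)) : ℝ) : ℂ) := by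
    intro y
    by_cases hy : y = 1
    · subst hy
      simp only [map_one, Units.val_one, Finset.sum_const, nsmul_eq_mul, mul_one, e1, e1', map_natCast]
      rw [Complex.normSq_natCast]
      push_cast
      rfl
    · have h10 := h y hy
      rw [e4 y hy, e4' y hy] at h10
      rw [← mul_left_cancel₀ hd0 h10, Complex.mul_conj]
  have hs2 : ∑ y : P, ((Complex.normSq (∑ l ∈ S χ, ((l y : ℂˣ) : ℂ)) : ℝ) : ℂ) = 0 := by
    rw [← hs]
    exact Finset.sum_congr rfl fun y _ => (hterm y).symm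
  rw [← Complex.ofReal_sum] at hs2
  have hs' : ∑ y : P, Complex.normSq (∑ l ∈ S χ, ((l y : ℂˣ) : ℂ)) = 0 := by exact_mod_cast hs2
  rw [Finset.sum_eq_zero_iff_of_nonneg fun y _ => Complex.normSq_nonneg _] at hs'
  have h11 := hs' 1 (Finset.mem_univ _)
  simp only [map_one, Units.val_one, Finset.sum_const, nsmul_eq_mul, mul_one, e1] at h11
  rw [Complex.normSq_natCast] at h11
  have h12 : (0 : ℝ) < Nat.card (stabAct hK θ) := by exact_mod_cast Nat.card_pos
  nlinarith

theorem part_bot (hK : Nat.card K = 1) (χ : G → ℂ) (x : G) : part (1 : K → ℂ) χ x = χ x := by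
  have := Fintype.ofFinite K
  have hs : Subsingleton K := (Nat.card_eq_one_iff_unique.1 hK).1
  rw [part_eq, Finset.sum_eq_single (1 : K) (fun b _ hb => absurd (Subsingleton.elim b 1) hb)
    (fun h => absurd (Finset.mem_univ _) h), hK]
  simp

/-- `C(y) = ⟨y⟩` -/
theorem exists_self {q : ℕ} [Fact q.Prime] (hq2 : ¬ q ^ 2 ∣ Nat.card G) {c : ℕ}
    {y : G} (hy : orderOf y = q) (hC : Nat.card (centralizer ({y} : Set G)) = q * c) :
    ∃ (P : Sylow q G) (K : Subgroup G), (P : Subgroup G) = zpowers y ∧ Nat.card P = q ∧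
      IsComp q (P : Subgroup G) K ∧ Nat.card K = c := by
  have hq : q.Prime := Fact.out
  have hyp : IsPGroup q (zpowers y) := IsPGroup.of_card (n := 1) (by rw [Nat.card_zpowers, hy, pow_one])
  obtain ⟨P, hP⟩ := hyp.exists_le_sylow
  have hPc : Nat.card P = q := by
    obtain ⟨n, hn⟩ := IsPGroup.iff_card.1 P.isPGroup'
    have h1 : Nat.card (P : Subgroup G) ∣ Nat.card G := Subgroup.card_subgroup_dvd_card _
    have h2 := Subgroup.card_dvd_of_le hP
    rw [Nat.card_zpowers, hy] at h2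
    have hn' : Nat.card (P : Subgroup G) = q ^ n := hn
    rw [hn'] at h1 h2
    have h3 : n < 2 := by
      by_contra h4
      exact hq2 ((pow_dvd_pow q (by omega)).trans h1)
    have h4 : n ≠ 0 := by
      rintro rfl
      rw [pow_zero] at h2
      exact hq.one_lt.ne' (Nat.dvd_one.1 h2)
    have h5 : n = 1 := by omega
    rw [h5, pow_one] at hn
    exact hn
  have hPy : (P : Subgroup G) = zpowers y := by
    refine (Subgroup.eq_of_le_of_card_ge hP ?_).symm
    rw [Nat.card_zpowers, hy]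
    exact hPc.le
  obtain ⟨K, hK⟩ := exists_isComp P hPc
  refine ⟨P, K, hPy, hPc, hK, ?_⟩
  have h1 := card_centralizer hK hPc
  have h2 : centralizer ((P : Subgroup G) : Set G) = centralizer ({y} : Set G) := by
    rw [hPy]
    ext g
    rw [mem_centralizer_iff, mem_centralizer_singleton_iff]
    constructor
    · intro h
      exact (h y (mem_zpowers y)).symm
    · intro h z hz
      obtain ⟨k, rfl⟩ := mem_zpowers_iff.1 hz
      exact ((show Commute g y from h).zpow_right k).eq.symm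
  rw [h2, hC] at h1
  exact (Nat.eq_of_mul_eq_mul_left hq.pos h1).symm

/-- a root of `z² + z + 8` is not real -/
theorem not_real {z : ℂ} (h : z ^ 2 + z + 8 = 0) : conj z ≠ z := by
  intro h1
  have h2 : z.im = 0 := by
    have := congrArg Complex.im h1
    rw [Complex.conj_im] at this
    linarith
  have h3 := congrArg Complex.re h
  simp only [pow_two, Complex.add_re, Complex.mul_re, h2] at h3
  norm_num at h3
  nlinarith [sq_nonneg (2 * z.re + 1)]

section T

variable {T : Type u} [Group T] [Finite T]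

/-- the values on a Sylow 31-subgroup -/
theorem exists_T (hT2 : ¬ 31 ^ 2 ∣ Nat.card T)
    (hC : ∀ y : T, orderOf y = 31 → Nat.card (centralizer ({y} : Set T)) = 31) {y : T} (hy : orderOf y = 31) :
    ∃ (P : Sylow 31 T) (K : Subgroup T), (P : Subgroup T) = zpowers y ∧ Nat.card P = 31 ∧
      IsComp 31 (P : Subgroup T) K ∧ Nat.card K = 1 := by
  have : Fact (Nat.Prime 31) := ⟨by norm_num⟩
  exact exists_self hT2 hy (c := 1) (by rw [hC y hy])

/-- **The Galois group at `θ`.** -/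
theorem gal31 (hT2 : ¬ 31 ^ 2 ∣ Nat.card T)
    (hC : ∀ y : T, orderOf y = 31 → Nat.card (centralizer ({y} : Set T)) = 31) (hT : 31 ∣ Nat.card T)
    (θ : IrrCharacter T) (hη : ∀ y : T, orderOf y = 31 → (θ : T → ℂ) y ^ 2 + (θ : T → ℂ) y + 8 = 0) {m : ℕ}
    (hm : m.Coprime (Nat.card T)) (h1 : m ≡ 1 [MOD 31]) (t : T) : (θ : T → ℂ) (t ^ m) = (θ : T → ℂ) t := by
  have : Fact (Nat.Prime 31) := ⟨by norm_num⟩
  obtain ⟨y, hy⟩ := exists_prime_orderOf_dvd_card' (G := T) 31 hT
  obtain ⟨P, K, hPy, hP, hK, hK1⟩ := exists_T hT2 hC hy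
  let ψ : IrrCharacter T := ⟨fun g => (θ : T → ℂ) (g ^ m), Cfsg.Agent.H788.RatB.isIrr_pow hm θ.2⟩
  have hval : ∀ x : P, x ≠ 1 → (x : T) ^ m = x := by
    intro x hx
    have h2 := orderOf_P hP hx
    conv_rhs => rw [← pow_one (x : T)]
    exact pow_eq_pow_iff_modEq.2 (by rw [h2]; exact h1)
  have hψ : θ = ψ := by
    refine eq_of_part hK hP (θ := (1 : K → ℂ)) isIrr_one (fun x hx => ?_) ?_
    · rw [part_bot hK1, part_bot hK1]
      show (θ : T → ℂ) x = (θ : T → ℂ) ((x : T) ^ m)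
      rw [hval x hx]
    · obtain ⟨x, hx⟩ := exists_ne_P hP
      refine ⟨x, x⁻¹, hx, fun h => hx (inv_eq_one.1 h), ?_⟩
      rw [part_bot hK1, part_bot hK1, coe_inv, isCharacter_apply_inv (isIrr_isCharacter θ.2)]
      exact (not_real (hη x (orderOf_P hP hx))).symm
  have h3 := congrFun (congrArg Subtype.val hψ) t
  exact h3.symm

/-- **`|N(P) : C(P)| = 15` in `Th`.** -/
theorem rel31_T (hT2 : ¬ 31 ^ 2 ∣ Nat.card T)
    (hC : ∀ y : T, orderOf y = 31 → Nat.card (centralizer ({y} : Set T)) = 31)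
    (θ : IrrCharacter T) (hη : ∀ y : T, orderOf y = 31 → (θ : T → ℂ) y ^ 2 + (θ : T → ℂ) y + 8 = 0)
    (hθ1 : (θ : T → ℂ) 1 = (767637 : ℕ)) {P : Sylow 31 T} (hP : Nat.card P = 31) :
    (centralizer ((P : Subgroup T) : Set T)).relIndex (normalizer ((P : Subgroup T) : Set T)) = 15 := by
  classical
  have : Fact (Nat.Prime 31) := ⟨by norm_num⟩
  obtain ⟨K, hK⟩ := exists_isComp P hP
  have hK1 : Nat.card K = 1 := by
    obtain ⟨x, hx⟩ := exists_ne_P hP
    obtain ⟨P', K', h1, h2, h3, h4⟩ := exists_T hT2 hC (orderOf_P hP hx)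
    have h5 : (P : Subgroup T) = P' := by
      rw [h1]
      refine (Subgroup.eq_of_le_of_card_ge ?_ ?_).symm
      · rw [zpowers_le]; exact x.2
      · rw [Nat.card_zpowers, orderOf_P hP hx]
        exact hP.le
    have h6 := card_centralizer hK hP
    have h7 := card_centralizer h3 h2
    rw [← h5, h6, h4] at h7
    omega
  have hst : ∀ n ∈ normalizer ((P : Subgroup T) : Set T), tw (1 : K → ℂ) n = 1 := by
    intro n hn
    funext y
    rw [tw_apply hK _ hn]
    rfl
  have he := card_stabAct_of_stable hK hP isIrr_one hst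
  obtain ⟨t, ht⟩ := card_stabAct_dvd hK hP (1 : K → ℂ)
  obtain ⟨NE, X, ε, d, S, h1, h2, h3, h4, h5, h6, h7, h8, h9, -, -⟩ := theoremC hK hP (θ := (1 : K → ℂ)) isIrr_one rfl ht.symm
  obtain ⟨x, hx⟩ := exists_ne_P hP
  have hx' : x⁻¹ ≠ 1 := fun h => hx (inv_eq_one.1 h)
  have hne : (θ : T → ℂ) x ≠ (θ : T → ℂ) (x⁻¹ : P) := by
    rw [coe_inv, isCharacter_apply_inv (isIrr_isCharacter θ.2)]
    exact (not_real (hη x (orderOf_P hP hx))).symm
  have hO : θ ∈ Over P (1 : K → ℂ) := by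
    by_contra hc
    have e1 := part_eq_zero hc hx
    have e2 := part_eq_zero hc hx'
    rw [part_bot hK1] at e1 e2
    exact hne (e1.trans e2.symm)
  have hX : θ ∈ X := by
    rcases (h1 θ).1 hO with h10 | h10
    · have e1 := h7 θ h10 x hx
      have e2 := h7 θ h10 x⁻¹ hx'
      rw [part_bot hK1] at e1 e2
      exact absurd (e1.trans e2.symm) hne
    · exact h10
  obtain ⟨e1, e2, -, e4⟩ := h8 θ hX
  obtain ⟨k, hk⟩ := part_one_of_exc hK hP (isIrr_isCharacter θ.2) isIrr_one e2 e4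
  rw [part_bot hK1, hθ1, e1] at hk
  have hk' : (767637 : ℤ) = d * Nat.card (stabAct hK (1 : K → ℂ)) + 31 * k := by exact_mod_cast hk
  rw [← he]
  have hle : Nat.card (stabAct hK (1 : K → ℂ)) ≤ 30 := Nat.le_of_dvd (by norm_num) ⟨t, ht⟩
  have hdv : Nat.card (stabAct hK (1 : K → ℂ)) ∣ 30 := ⟨t, ht⟩
  generalize Nat.card (stabAct hK (1 : K → ℂ)) = e at *
  rcases h6 with rfl | rfl
  · omega
  · have h11 : e = 16 := by omega
    rw [h11] at hdv
    norm_num at hdv

end T

/-! ### Transfer to `G` -/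

/-- `|N_T(P) : C_T(P)| ≤ |N_G(P) : C_G(P)|` -/
theorem relIndex_le {T : Subgroup G} {q : ℕ} [Fact q.Prime] {P : Sylow q G} {PT : Sylow q T}
    (hPT : (P : Subgroup G) = (PT : Subgroup T).map T.subtype) :
    (centralizer ((PT : Subgroup T) : Set T)).relIndex (normalizer ((PT : Subgroup T) : Set T)) ≤
      (centralizer ((P : Subgroup G) : Set G)).relIndex (normalizer ((P : Subgroup G) : Set G)) := by
  have hN : (normalizer ((PT : Subgroup T) : Set T)).map T.subtype ≤ normalizer ((P : Subgroup G) : Set G) := by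
    rintro _ ⟨n, hn, rfl⟩
    rw [mem_normalizer_iff, hPT]
    intro g
    constructor
    · rintro ⟨x, hx, rfl⟩
      exact ⟨n * x * n⁻¹, (mem_normalizer_iff.1 hn x).1 hx, by simp⟩
    · rintro ⟨x, hx, hxg⟩
      refine ⟨n⁻¹ * x * n, ?_, ?_⟩
      · rw [SetLike.mem_coe, mem_normalizer_iff] at hn
        rw [SetLike.mem_coe, hn]
        have : n * (n⁻¹ * x * n) * n⁻¹ = x := by group
        rw [this]
        exact hx
      · rw [map_mul, map_mul, map_inv, hxg]
        simp only [coe_subtype]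
        group
  have h1 := Subgroup.relIndex_le_of_le_right (H := centralizer ((P : Subgroup G) : Set G)) hN
    Subgroup.index_ne_zero_of_finite
  refine le_trans (le_of_eq ?_) h1
  -- the same index
  have hC : (centralizer ((P : Subgroup G) : Set G)).comap T.subtype = centralizer ((PT : Subgroup T) : Set T) := by
    ext t
    rw [mem_comap, mem_centralizer_iff, mem_centralizer_iff, hPT]
    constructor
    · intro h x hx
      exact Subtype.ext (h _ ⟨x, hx, rfl⟩)
    · rintro h _ ⟨x, hx, rfl⟩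
      exact congrArg Subtype.val (h x hx)
  rw [← hC, Subgroup.relIndex_comap]

/-- **`|K| = 6`, `K` nonabelian: the irreducible characters of `K` are `N(P)`-stable.** -/
theorem orb_six (hK : IsComp p (P : Subgroup G) K) (hcard : Nat.card K = 6)
    (hna : ∃ ψ : IrrCharacter K, (ψ : K → ℂ) 1 ≠ 1) (θ : IrrCharacter K) {n : ℕ} (hn0 : 0 < n)
    (hn : (θ : K → ℂ) 1 = n) : (orb P K (θ : K → ℂ)).card = 1 ∧ n ≤ 2 := by
  classical
  have : Finite (IrrCharacter K) := finite_irr
  have := Fintype.ofFinite (IrrCharacter K)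
  obtain ⟨ψ, hψ⟩ := hna
  choose dg hdg using fun θ : IrrCharacter K => isCharacter_apply_one (isIrr_isCharacter θ.2)
  have hsum : ∑ φ : IrrCharacter K, dg φ ^ 2 = 6 := by
    have h1 := Cfsg.Agent.CharDeep.PowerDegrees.sum_sq (G := K)
    simp only [hdg, hcard] at h1
    exact_mod_cast h1
  have hsub : ∀ T : Finset (IrrCharacter K), ∑ φ ∈ T, dg φ ^ 2 ≤ 6 := fun T => by
    rw [← hsum]
    exact Finset.sum_le_sum_of_subset (Finset.subset_univ _)
  have hdgn : ∀ φ ∈ orb P K (θ : K → ℂ), dg φ = n := by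
    intro φ hφ
    have h1 := orb_one hK hφ
    rw [hn, hdg] at h1
    exact_mod_cast h1
  have hsq : ∑ φ ∈ orb P K (θ : K → ℂ), dg φ ^ 2 = (orb P K (θ : K → ℂ)).card * n ^ 2 := by
    rw [Finset.sum_congr rfl (g := fun _ => n ^ 2) (fun φ hφ => by rw [hdgn φ hφ]), Finset.sum_const, smul_eq_mul]
  have hψ2 : 2 ≤ dg ψ := by
    obtain ⟨m, hm0, hm⟩ := isIrr_apply_one ψ.2
    have h1 : dg ψ = m := by
      have := (hdg ψ).symm.trans hm
      exact_mod_cast this
    rw [h1]
    by_contra h2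
    have h3 : m = 1 := by omega
    apply hψ
    rw [hm, h3, Nat.cast_one]
  have hkp := card_orb_pos (P := P) θ
  by_cases h1 : (θ : K → ℂ) = 1
  · rw [orb_eq_of_one hK θ h1, Finset.card_singleton]
    rw [h1, Pi.one_apply] at hn
    have : n = 1 := by exact_mod_cast hn.symm
    omega
  by_cases hmem : ψ ∈ orb P K (θ : K → ℂ)
  · have h2 := hsub (orb P K (θ : K → ℂ))
    rw [hsq] at h2
    rw [hdgn ψ hmem] at hψ2
    constructor
    · by_contra h3
      have h4 : 2 ≤ (orb P K (θ : K → ℂ)).card := by omega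
      have h5 : 2 ^ 2 ≤ n ^ 2 := Nat.pow_le_pow_left hψ2 2
      have h6 : 2 * 2 ^ 2 ≤ (orb P K (θ : K → ℂ)).card * n ^ 2 := Nat.mul_le_mul h4 h5
      omega
    · by_contra h3
      have h5 : 3 ^ 2 ≤ n ^ 2 := Nat.pow_le_pow_left (by omega) 2
      have h6 : 1 * 3 ^ 2 ≤ (orb P K (θ : K → ℂ)).card * n ^ 2 := Nat.mul_le_mul hkp h5
      omega
  · let one : IrrCharacter K := ⟨1, isIrr_one⟩
    have hone : dg one = 1 := by
      have h2 := hdg one
      have h3 : (one : K → ℂ) 1 = ((1 : ℕ) : ℂ) := by rw [Nat.cast_one]; rfl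
      exact_mod_cast h2.symm.trans h3
    have h2 : one ∉ insert ψ (orb P K (θ : K → ℂ)) := by
      rw [Finset.mem_insert]
      rintro (h3 | h3)
      · apply hψ
        rw [← h3]
        rfl
      · obtain ⟨m, hm, h4⟩ := mem_orb.1 h3
        apply h1
        have h5 : tw (tw (θ : K → ℂ) m) m⁻¹ = (θ : K → ℂ) := by
          rw [← tw_mul hK _ hm (inv_mem hm), mul_inv_cancel, tw_one]
        rw [← h5, h4]
        funext y
        rw [tw_apply hK _ (inv_mem hm)]
        rfl
    have h3 := hsub (insert one (insert ψ (orb P K (θ : K → ℂ))))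
    rw [Finset.sum_insert h2, Finset.sum_insert hmem, hsq, hone] at h3
    have h5 : 2 ^ 2 ≤ dg ψ ^ 2 := Nat.pow_le_pow_left hψ2 2
    have h7 : 1 ≤ n ^ 2 := Nat.one_le_pow _ _ hn0
    have h6 : (orb P K (θ : K → ℂ)).card ≤ (orb P K (θ : K → ℂ)).card * n ^ 2 := Nat.le_mul_of_pos_right _ h7
    have h8 : n ^ 2 ≤ (orb P K (θ : K → ℂ)).card * n ^ 2 := Nat.le_mul_of_pos_left _ hkp
    have h9 : n ≤ n ^ 2 := Nat.le_self_pow (by norm_num) _
    constructor <;> omega

theorem stable_of_card_one (hK : IsComp p (P : Subgroup G) K) {θ : IrrCharacter K}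
    (h : (orb P K (θ : K → ℂ)).card = 1) :
    ∀ n ∈ normalizer ((P : Subgroup G) : Set G), tw (θ : K → ℂ) n = θ := by
  intro m hm
  obtain ⟨θ₀, hθ₀⟩ := Finset.card_eq_one.1 h
  have h10 : θ = θ₀ := by
    have := self_mem_orb (P := P) θ
    rwa [hθ₀, Finset.mem_singleton] at this
  subst h10
  have h1 : (⟨tw (θ : K → ℂ) m, isIrr_tw hK θ.2 hm⟩ : IrrCharacter K) ∈ orb P K (θ : K → ℂ) :=
    mem_orb.2 ⟨m, hm, rfl⟩
  rw [hθ₀, Finset.mem_singleton] at h1
  exact congrArg Subtype.val h1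

/-- a character over `θ` is not constant only if the inertial index is less than `p - 1` -/
theorem const_of_full (hK : IsComp p (P : Subgroup G) K) (hP : Nat.card P = p) (hcard : Nat.card K = 6)
    (hna : ∃ ψ : IrrCharacter K, (ψ : K → ℂ) 1 ≠ 1)
    (he : (centralizer ((P : Subgroup G) : Set G)).relIndex (normalizer ((P : Subgroup G) : Set G)) = p - 1)
    (χ : IrrCharacter G) : Const P K (χ : G → ℂ) := by
  classical
  intro x x' hx hx' y
  by_cases hex : ∃ θ : IrrCharacter K, χ ∈ Over P (θ : K → ℂ)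
  · obtain ⟨θ, hθ⟩ := hex
    obtain ⟨n, hn0, hn⟩ := isIrr_apply_one θ.2
    have hst := stable_of_card_one hK (orb_six hK hcard hna θ hn0 hn).1
    have he' : Nat.card (stabAct hK (θ : K → ℂ)) = p - 1 := by
      rw [card_stabAct_of_stable hK hP θ.2 hst, he]
    obtain ⟨B, δ, -, hB, hδ, -⟩ := theoremC_one hK hP θ.2 he'
    obtain ⟨h1, h2⟩ := hδ χ ((hB χ).1 hθ)
    rw [apply_of_stable hK hP θ.2 hst hθ hx, apply_of_stable hK hP θ.2 hst hθ hx', h2 x hx, h2 x' hx']
  · push Not at hex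
    have : Finite (IrrCharacter K) := finite_irr
    have := Fintype.ofFinite (IrrCharacter K)
    have h0 : ∀ z : P, z ≠ 1 → (χ : G → ℂ) (z * y) = 0 := by
      intro z hz
      rw [sum_part (isIrr_isClassFunction χ.2) (fun y hy => hK.comm z.2 hy)]
      exact Finset.sum_eq_zero fun θ _ => by rw [part_eq_zero (hex θ) hz, zero_mul]
    rw [h0 x hx, h0 x' hx']

end Cfsg.Agent.H676.Deg
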