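import Mathlib
import Cfsg.Agent.H676.Deg.GalFix
import Cfsg.Agent.H853.Sieve.RowM
import Cfsg.Agent.H676.Deg.Th31
import Cfsg.Agent.H686.PGal

/-!
# S4910, row M: the conditions of the degree sieve (helper676)

`LocM` : the local data of the Monster at the primes 17, 19, 23, 29, 31, 41, 47, 59, 71;
`cand` : the three characters of the block satisfy helper853's `Cand`; `main` : one of the degrees is prime to `196883`.
-/

set_option autoImplicit false
set_option linter.unusedSectionVars false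

open Cfsg
open scoped ComplexConjugate

namespace Cfsg.Agent.H676.Deg.RowM

open Subgroup
open Cfsg.Agent.Characters.Core
open Cfsg.Agent.SmallSimple.ThetaSetup
open Cfsg.Agent.H853.Sieve.RowM

universe u

variable {G : Type u} [Group G] [Finite G]

theorem fact17 : Fact (Nat.Prime 17) := ⟨by norm_num⟩
theorem fact19 : Fact (Nat.Prime 19) := ⟨by norm_num⟩
theorem fact23 : Fact (Nat.Prime 23) := ⟨by norm_num⟩
theorem fact29 : Fact (Nat.Prime 29) := ⟨by norm_num⟩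
theorem fact31 : Fact (Nat.Prime 31) := ⟨by norm_num⟩
theorem fact41 : Fact (Nat.Prime 41) := ⟨by norm_num⟩
theorem fact47 : Fact (Nat.Prime 47) := ⟨by norm_num⟩
theorem fact59 : Fact (Nat.Prime 59) := ⟨by norm_num⟩
theorem fact71 : Fact (Nat.Prime 71) := ⟨by norm_num⟩

/-- The local data of the Monster. -/
structure LocM (G : Type u) [Group G] : Prop where
  /-- `C(17) = 17 × L₃(2)` -/
  l17 : ∃ (P : Sylow 17 G) (K : Subgroup G), Nat.card P = 17 ∧ IsComp 17 (P : Subgroup G) K ∧ Nat.card K = 168 ∧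
    IsSimpleGroup K ∧ H442.ZerosSmall.Deg7 K
  /-- `C(19) = 19 × A₅`, the elements of order 19 are conjugate -/
  l19 : ∃ (P : Sylow 19 G) (K : Subgroup G), Nat.card P = 19 ∧ IsComp 19 (P : Subgroup G) K ∧
    H442.ZerosSmall.Deg5 K ∧ ∀ x y : G, orderOf x = 19 → orderOf y = 19 → IsConj x y
  /-- `|C(23)| = 23 · 24`, `|N : C| = 11` -/
  l23 : ∃ (P : Sylow 23 G) (K : Subgroup G), Nat.card P = 23 ∧ IsComp 23 (P : Subgroup G) K ∧ Nat.card K = 24 ∧
    (centralizer ((P : Subgroup G) : Set G)).relIndex (normalizer ((P : Subgroup G) : Set G)) = 11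
  l29 : ∃ (P : Sylow 29 G) (K : Subgroup G), Nat.card P = 29 ∧ IsComp 29 (P : Subgroup G) K ∧ Nat.card K = 3
  l41 : ∃ (P : Sylow 41 G) (K : Subgroup G), Nat.card P = 41 ∧ IsComp 41 (P : Subgroup G) K ∧ Nat.card K ≤ 2
  l47 : ∃ (P : Sylow 47 G) (K : Subgroup G), Nat.card P = 47 ∧ IsComp 47 (P : Subgroup G) K ∧ Nat.card K ≤ 2
  l59 : ∃ (P : Sylow 59 G) (K : Subgroup G), Nat.card P = 59 ∧ IsComp 59 (P : Subgroup G) K ∧ Nat.card K ≤ 2
  l71 : ∃ (P : Sylow 71 G) (K : Subgroup G), Nat.card P = 71 ∧ IsComp 71 (P : Subgroup G) K ∧ Nat.card K ≤ 2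

variable {w : G} {T : Subgroup G} {θ : IrrCharacter T} {χ : Fin 3 → IrrCharacter G} {s : ℤ}

/-- the value at an element of order 19 -/
theorem val19 (L : LocM G) {x : G} (hx : orderOf x = 19) (i : Fin 3) :
    ∃ c : ℤ, (χ i : G → ℂ) x = c ∧ (19 : ℤ) ∣ charDegree (χ i : G → ℂ) - c ∧
      (3 ∣ c ∨ c = 1 ∨ c = -1 ∨ c = 4 ∨ c = -4 ∨ c = 5 ∨ c = -5) := by
  have := fact19
  obtain ⟨P, K, hP, hK, D, hconj⟩ := L.l19
  have hpc : ∀ a b : P, a ≠ 1 → b ≠ 1 → IsConj (a : G) b := fun a b ha hb =>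
    hconj a b (orderOf_P hP ha) (orderOf_P hP hb)
  obtain ⟨c, h1, h2, h3⟩ := res_60 hK hP (χ i) hpc D (Cfsg.Agent.Blocks.Basic.irr_one_eq_charDegree (χ i).2)
  obtain ⟨a, ha⟩ := exists_ne_P hP
  refine ⟨c, ?_, h2, h3⟩
  rw [← h1 a ha]
  exact Cfsg.Agent.Blocks.Basic.irr_isConj (χ i).2 (hconj x a hx (orderOf_P hP ha))

theorem num19 {d k : ℕ} {c : ℤ} (h2 : (19 : ℤ) ∣ d - c) (h4 : (3 : ℤ) ∣ c - k) (h5 : ¬ 3 ∣ k)
    (h3 : 3 ∣ c ∨ c = 1 ∨ c = -1 ∨ c = 4 ∨ c = -4 ∨ c = 5 ∨ c = -5) :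
    (d % 19, k % 3) ∈ [(1, 1), (18, 2), (4, 1), (15, 2), (5, 2), (14, 1)] := by
  rcases h3 with h3 | rfl | rfl | rfl | rfl | rfl | rfl
  · exfalso
    omega
  · have e1 : d % 19 = 1 := by omega
    have e2 : k % 3 = 1 := by omega
    rw [e1, e2]; simp
  · have e1 : d % 19 = 18 := by omega
    have e2 : k % 3 = 2 := by omega
    rw [e1, e2]; simp
  · have e1 : d % 19 = 4 := by omega
    have e2 : k % 3 = 1 := by omega
    rw [e1, e2]; simp
  · have e1 : d % 19 = 15 := by omega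
    have e2 : k % 3 = 2 := by omega
    rw [e1, e2]; simp
  · have e1 : d % 19 = 5 := by omega
    have e2 : k % 3 = 2 := by omega
    rw [e1, e2]; simp
  · have e1 : d % 19 = 14 := by omega
    have e2 : k % 3 = 1 := by omega
    rw [e1, e2]; simp

/-- the residue modulo 19 -/
theorem res19 (L : LocM G) {m : Fin 3 → ℕ} (hm : ∀ i, ¬ 3 ∣ m i) {x : G} (hx : orderOf x = 19)
    (hS : ∀ (i : Fin 3) (c : ℤ), (χ i : G → ℂ) x = c → (3 : ℤ) ∣ c - m i) (i : Fin 3) :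
    (charDegree (χ i : G → ℂ) % 19, m i % 3) ∈ [(1, 1), (18, 2), (4, 1), (15, 2), (5, 2), (14, 1)] := by
  obtain ⟨c, h1, h2, h3⟩ := val19 (χ := χ) L hx i
  have h4 := hS i c h1
  have h5 := hm i
  exact num19 h2 h4 h5 h3

theorem mem19 {d k : ℕ} (h : (d % 19, k % 3) ∈ [(1, 1), (18, 2), (4, 1), (15, 2), (5, 2), (14, 1)]) :
    d % 19 = 1 ∨ d % 19 = 18 ∨ d % 19 = 4 ∨ d % 19 = 15 ∨ d % 19 = 5 ∨ d % 19 = 14 := by
  simp only [List.mem_cons, Prod.mk.injEq, List.not_mem_nil, or_false] at h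
  rcases h with h | h | h | h | h | h <;> simp [h.1]

theorem num_ne {d0 d1 d2 : ℕ} (h : d0 + d1 = d2) (h0 : 0 < d0) (h1 : 0 < d1)
    (e0 : d0 % 19 = 1 ∨ d0 % 19 = 18 ∨ d0 % 19 = 4 ∨ d0 % 19 = 15 ∨ d0 % 19 = 5 ∨ d0 % 19 = 14)
    (_e1 : d1 % 19 = 1 ∨ d1 % 19 = 18 ∨ d1 % 19 = 4 ∨ d1 % 19 = 15 ∨ d1 % 19 = 5 ∨ d1 % 19 = 14)
    (e2 : d2 % 19 = 1 ∨ d2 % 19 = 18 ∨ d2 % 19 = 4 ∨ d2 % 19 = 15 ∨ d2 % 19 = 5 ∨ d2 % 19 = 14) :
    d0 ≠ d1 ∧ d0 ≠ d2 ∧ d1 ≠ d2 := by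
  refine ⟨?_, by omega, by omega⟩
  rintro rfl
  have h7 : d2 % 19 = (2 * (d0 % 19)) % 19 := by omega
  rcases e0 with e | e | e | e | e | e <;> rw [e] at h7 <;> rw [h7] at e2 <;> norm_num at e2

/-- the degrees are distinct -/
theorem deg_inj (h : Trio w T θ χ s) (L : LocM G) {m : Fin 3 → ℕ} (hm : ∀ i, ¬ 3 ∣ m i) {x : G} (hx : orderOf x = 19)
    (hS : ∀ (i : Fin 3) (c : ℤ), (χ i : G → ℂ) x = c → (3 : ℤ) ∣ c - m i) :
    ∀ i j, (χ i : G → ℂ) 1 = (χ j : G → ℂ) 1 → i = j := by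
  have h1 : ∀ i j, (χ i : G → ℂ) 1 = (χ j : G → ℂ) 1 → charDegree (χ i : G → ℂ) = charDegree (χ j : G → ℂ) := by
    intro i j hij
    rw [Cfsg.Agent.Blocks.Basic.irr_one_eq_charDegree (χ i).2,
      Cfsg.Agent.Blocks.Basic.irr_one_eq_charDegree (χ j).2] at hij
    exact_mod_cast hij
  have h2 := h.deg
  have h3 : ∀ i, 0 < charDegree (χ i : G → ℂ) := fun i => Cfsg.Agent.Blocks.Basic.charDegree_pos (χ i).2
  have h4 := h3 0
  have h5 := h3 1
  have h6 := h3 2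
  have r0 := res19 L hm hx hS 0
  have r1 := res19 L hm hx hS 1
  have r2 := res19 L hm hx hS 2
  have hn := num_ne h2 h4 h5 (mem19 r0) (mem19 r1) (mem19 r2)
  intro i j hij
  have h7 := h1 i j hij
  fin_cases i <;> fin_cases j <;> first
    | rfl
    | exact absurd h7 hn.1
    | exact absurd h7.symm hn.1
    | exact absurd h7 hn.2.1
    | exact absurd h7.symm hn.2.1
    | exact absurd h7 hn.2.2
    | exact absurd h7.symm hn.2.2

theorem res41 (h : Trio w T θ χ s) (hdeg : ∀ i j, (χ i : G → ℂ) 1 = (χ j : G → ℂ) 1 → i = j) {p : ℕ} [Fact p.Prime]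
    {P : Sylow p G} {K : Subgroup G} (hP : Nat.card P = p) (hK : IsComp p (P : Subgroup G) K) (hc : Nat.card K ≤ 2)
    (hpT : ¬ p ∣ Nat.card T) (i : Fin 3) :
    charDegree (χ i : G → ℂ) % p ∈ [0, 1, p - 1] := by
  have hp : p.Prime := Fact.out
  have h1 := res_one hK hP (χ i) (h.const hdeg hK hP hpT i)
    (Cfsg.Agent.Blocks.Basic.irr_one_eq_charDegree (χ i).2) hc
  have h2 := hp.two_le
  simp only [List.mem_cons, List.not_mem_nil, or_false]
  generalize charDegree (χ i : G → ℂ) = d at *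
  rcases h1 with h1 | h1 | h1
  · left
    exact Nat.mod_eq_zero_of_dvd (by exact_mod_cast h1)
  · right; left
    have h3 : (d : ℤ) % p = 1 := by
      rw [← Int.emod_emod_of_dvd _ (dvd_refl (p : ℤ)), Int.emod_emod_of_dvd _ (dvd_refl (p : ℤ))]
      have h4 : (d : ℤ) ≡ 1 [ZMOD p] := (Int.modEq_iff_dvd.2 h1).symm
      have h5 : (1 : ℤ) % p = 1 := Int.emod_eq_of_lt (by norm_num) (by exact_mod_cast h2)
      rw [← h5]
      exact h4
    exact_mod_cast h3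
  · right; right
    have h4 : (d : ℤ) ≡ (p : ℤ) - 1 [ZMOD p] := by
      refine (Int.modEq_iff_dvd.2 ?_).symm
      have : (d : ℤ) - ((p : ℤ) - 1) = (d + 1) - p := by ring
      rw [this]
      exact dvd_sub h1 (dvd_refl _)
    have h5 : ((p : ℤ) - 1) % p = p - 1 := Int.emod_eq_of_lt (by have : (2 : ℤ) ≤ p := by exact_mod_cast h2
                                                                 omega) (by omega)
    have h6 : (d : ℤ) % p = p - 1 := by
      rw [← h5]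
      exact h4
    omega

/-- the residues modulo 17 -/
theorem res17 (h : Trio w T θ χ s) (hdeg : ∀ i j, (χ i : G → ℂ) 1 = (χ j : G → ℂ) 1 → i = j) (L : LocM G)
    (hT : ¬ 17 ∣ Nat.card T)
    (hθ : ∀ m : ℕ, m.Coprime (Nat.card G) → m ≡ 1 [MOD 31] → ∀ t : T, ¬ 3 ∣ orderOf t → (θ : T → ℂ) (t ^ m) = (θ : T → ℂ) t)
    (h31 : ¬ 31 ^ 2 ∣ Nat.card G) (i : Fin 3) : charDegree (χ i : G → ℂ) % 17 ∈ [0, 6, 11] := by
  have := fact17
  obtain ⟨P, K, hP, hK, hc, hs, D⟩ := L.l17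
  have hreg : ∀ (x : P) (y : K), Commute (x : G) (y : G) := fun x y => hK.comm x.2 y.2
  have h1 := res_168 hK hP (χ i) (h.const hdeg hK hP hT i)
    (Cfsg.Agent.Blocks.Basic.irr_one_eq_charDegree (χ i).2) hc hs D
    (fun x hx z hz => h.zero (by norm_num) (by norm_num) hT (orderOf_P hP hx)
      (by rw [Subgroup.orderOf_coe]; exact hz) (hreg x z) i)
    (fun x hx y hy => h.rat hdeg (q := 31) (by norm_num) hθ h31 i (by
      rw [(hreg x y).orderOf_mul_eq_mul_orderOf_of_coprime, orderOf_P hP hx, Subgroup.orderOf_coe, hy]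
      · norm_num
      · rw [orderOf_P hP hx, Subgroup.orderOf_coe, hy]
        norm_num))
  generalize charDegree (χ i : G → ℂ) = d at *
  simp only [List.mem_cons, List.not_mem_nil, or_false]
  omega

/-- the residues modulo 23 -/
theorem res23 (h : Trio w T θ χ s) (hdeg : ∀ i j, (χ i : G → ℂ) 1 = (χ j : G → ℂ) 1 → i = j) (L : LocM G)
    (hT : ¬ 23 ∣ Nat.card T) (i : Fin 3) : charDegree (χ i : G → ℂ) % 23 ∈ [0, 3, 20] := by
  have := fact23
  obtain ⟨P, K, hP, hK, hc, he⟩ := L.l23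
  have h1 := res_24 hK hP (χ i) (h.const hdeg hK hP hT i)
    (Cfsg.Agent.Blocks.Basic.irr_one_eq_charDegree (χ i).2) hc he
    (fun x hx z hz => h.zero (by norm_num) (by norm_num) hT (orderOf_P hP hx)
      (by rw [Subgroup.orderOf_coe]; exact hz) (hK.comm x.2 z.2) i)
  generalize charDegree (χ i : G → ℂ) = d at *
  simp only [List.mem_cons, List.not_mem_nil, or_false]
  omega

/-- the residues modulo 29 -/
theorem res29 (h : Trio w T θ χ s) (hdeg : ∀ i j, (χ i : G → ℂ) 1 = (χ j : G → ℂ) 1 → i = j) (L : LocM G)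
    (hT : ¬ 29 ∣ Nat.card T) (i : Fin 3) : 29 ∣ charDegree (χ i : G → ℂ) := by
  have := fact29
  obtain ⟨P, K, hP, hK, hc⟩ := L.l29
  have h1 := res_three hK hP (χ i) (h.const hdeg hK hP hT i)
    (Cfsg.Agent.Blocks.Basic.irr_one_eq_charDegree (χ i).2) hc
    (fun x hx z hz => h.zero (by norm_num) (by norm_num) hT (orderOf_P hP hx)
      (by rw [Subgroup.orderOf_coe]; exact hz) (hK.comm x.2 z.2) i)
  exact_mod_cast h1

theorem num31 {d k : ℕ} {c : ℤ} (h2 : (31 : ℤ) ∣ d - c * 15) (h4 : (3 : ℤ) ∣ c + k)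
    (h3 : c = 1 ∨ c = -1 ∨ c = 2 ∨ c = -2) :
    (d % 31, k % 3) ∈ [(15, 2), (16, 1), (30, 1), (1, 2)] := by
  rcases h3 with rfl | rfl | rfl | rfl
  · have e1 : d % 31 = 15 := by omega
    have e2 : k % 3 = 2 := by omega
    rw [e1, e2]; simp
  · have e1 : d % 31 = 16 := by omega
    have e2 : k % 3 = 1 := by omega
    rw [e1, e2]; simp
  · have e1 : d % 31 = 30 := by omega
    have e2 : k % 3 = 1 := by omega
    rw [e1, e2]; simp
  · have e1 : d % 31 = 1 := by omega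
    have e2 : k % 3 = 2 := by omega
    rw [e1, e2]; simp

/-- the value at an element of order 31 -/
theorem val31 (h : Trio w T θ χ s) {P : Sylow 31 G} {K : Subgroup G} (hP : Nat.card P = 31)
    (hK : IsComp 31 (P : Subgroup G) K) (hc : Nat.card K = 6) (hna : ∃ ψ : IrrCharacter K, (ψ : K → ℂ) 1 ≠ 1)
    (he : (centralizer ((P : Subgroup G) : Set G)).relIndex (normalizer ((P : Subgroup G) : Set G)) = 15)
    (hPT : (P : Subgroup G) ≤ T)
    (hθ : ∃ x x' : G, ∃ (hx : x ∈ (P : Subgroup G)) (hx' : x' ∈ (P : Subgroup G)), x ≠ 1 ∧ x' ≠ 1 ∧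
      (θ : T → ℂ) ⟨x, hPT hx⟩ ≠ (θ : T → ℂ) ⟨x', hPT hx'⟩) {η : ℂ} (hη : η ^ 2 + η + 8 = 0) {r : G}
    (hr : r ∈ (P : Subgroup G)) (hr1 : r ≠ 1) (i : Fin 3) :
    ∃ c : ℤ, (c = 1 ∨ c = -1 ∨ c = 2 ∨ c = -2) ∧ ((χ i : G → ℂ) r = c * η ∨ (χ i : G → ℂ) r = c * conj η) ∧
      (31 : ℤ) ∣ charDegree (χ i : G → ℂ) - c * 15 := by
  have := fact31
  obtain ⟨ε, h1, h2⟩ := h.exists_sign i
  have hε : (ε : ℂ) ≠ 0 := by
    rcases h1 with rfl | rfl <;> norm_num
  have hw : w ∈ K := by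
    rw [hK]
    refine ⟨?_, by rw [h.hu]; norm_num⟩
    rw [mem_centralizer_iff]
    intro y hy
    exact h.comm y (hPT hy)
  have hnc : ¬ Const P K (χ i : G → ℂ) := by
    intro hcst
    obtain ⟨x, x', hx, hx', hx1, hx1', hne⟩ := hθ
    apply hne
    have h3 := hcst ⟨x, hx⟩ ⟨x', hx'⟩ (fun h => hx1 (congrArg Subtype.val h)) (fun h => hx1' (congrArg Subtype.val h))
      ⟨w, hw⟩
    have ho : ∀ (y : G) (hy : y ∈ (P : Subgroup G)), y ≠ 1 → ¬ 3 ∣ orderOf (⟨y, hPT hy⟩ : T) := by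
      intro y hy hy1
      have h5 := orderOf_P hP (x := ⟨y, hy⟩) (fun h => hy1 (congrArg Subtype.val h))
      rw [← Subgroup.orderOf_coe]
      change orderOf y = 31 at h5
      change ¬ 3 ∣ orderOf y
      rw [h5]
      norm_num
    have h4 := h2 ⟨x, hPT hx⟩ (ho x hx hx1)
    have h5 := h2 ⟨x', hPT hx'⟩ (ho x' hx' hx1')
    change (χ i : G → ℂ) (x * w) = (χ i : G → ℂ) (x' * w) at h3
    rw [h.comm x (hPT hx), h.comm x' (hPT hx')] at h3
    change (χ i : G → ℂ) (w * x) = _ at h4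
    change (χ i : G → ℂ) (w * x') = _ at h5
    rw [h4, h5] at h3
    exact mul_left_cancel₀ hε h3
  obtain ⟨c, t, h3, h4, h5, h6⟩ := res_6 hK hP (χ i) hc hna he (by norm_num) (by decide) hnc
    (Cfsg.Agent.Blocks.Basic.irr_one_eq_charDegree (χ i).2)
  have hr' : (⟨r, hr⟩ : P) ≠ 1 := fun h => hr1 (congrArg Subtype.val h)
  refine ⟨c, h3, ?_, h6⟩
  have h7 := h4 _ hr'
  have h8 := h5 _ hr'
  change (χ i : G → ℂ) r = _ at h8
  rw [h8]
  have h9 : t ⟨r, hr⟩ ^ 2 + t ⟨r, hr⟩ + ((8 : ℝ) : ℂ) = 0 := by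
    push_cast at h7 ⊢
    linear_combination (1 / 4 : ℂ) * h7
  rcases root_eq (c := 8) (by norm_num) (by push_cast; exact hη) h9 with h10 | h10
  · left; rw [h10]
  · right; rw [h10]

theorem fact_ordM : ordM.factorization 3 = 20 := by
  have h : ordM = 3 ^ 20 * 231737134238290082302814542435975168000000000 := by unfold ordM; norm_num
  rw [h, Nat.factorization_mul (by norm_num) (by norm_num), Finsupp.add_apply, Nat.prime_three.factorization_pow,
    Finsupp.single_eq_same, Nat.factorization_eq_zero_of_not_dvd (by norm_num)]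

theorem sq_le_card (χ : IrrCharacter G) : charDegree (χ : G → ℂ) * charDegree (χ : G → ℂ) ≤ Nat.card G := by
  have : Finite (IrrCharacter G) := finite_irr
  have := Fintype.ofFinite (IrrCharacter G)
  have h1 := Cfsg.Agent.CharDeep.PowerDegrees.sum_sq (G := G)
  have h2 : ∑ ψ : IrrCharacter G, charDegree (ψ : G → ℂ) ^ 2 = Nat.card G := by
    have h3 : ∀ ψ : IrrCharacter G, (ψ : G → ℂ) 1 = charDegree (ψ : G → ℂ) := fun ψ =>
      Cfsg.Agent.Blocks.Basic.irr_one_eq_charDegree ψ.2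
    simp only [h3] at h1
    exact_mod_cast h1
  rw [← h2, ← pow_two]
  exact Finset.single_le_sum (f := fun ψ : IrrCharacter G => charDegree (ψ : G → ℂ) ^ 2) (fun _ _ => Nat.zero_le _)
    (Finset.mem_univ χ)

/-- `d = 3 ^ 19 m`, `3 ∤ m` -/
theorem exists_m {d : ℕ} (hd : 0 < d) (h : d.factorization 3 = 19) : d = 3 ^ 19 * (d / 3 ^ 19) ∧ ¬ 3 ∣ d / 3 ^ 19 := by
  have h1 : 3 ^ 19 ∣ d := by
    have := Nat.ordProj_dvd d 3
    rwa [h] at this
  have h2 : ¬ 3 ^ 20 ∣ d := by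
    intro h3
    have := (Nat.prime_three.pow_dvd_iff_le_factorization hd.ne').1 h3
    omega
  refine ⟨(Nat.mul_div_cancel' h1).symm, fun h3 => h2 ?_⟩
  rw [← Nat.mul_div_cancel' h1, pow_succ 3 19]
  exact Nat.mul_dvd_mul_left _ h3

/-- **The conditions of the sieve.** -/
theorem cand (h : Trio w T θ χ s) (L : LocM G) (hG : Nat.card G = ordM) (hT : Nat.card T = 90745943887872000)
    (hθ1 : charDegree (θ : T → ℂ) = 767637)
    (h3 : ∀ i, (charDegree (χ i : G → ℂ)).factorization 3 + 1 = (Nat.card G).factorization 3)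
    (hQ : ∀ i, 3 * Nat.card T * charDegree (χ i : G → ℂ) ∣ Nat.card G * charDegree (θ : T → ℂ))
    (hgal : ∀ m : ℕ, m.Coprime (Nat.card G) → m ≡ 1 [MOD 31] → ∀ t : T, ¬ 3 ∣ orderOf t →
      (θ : T → ℂ) (t ^ m) = (θ : T → ℂ) t)
    -- 19
    {x : G} (hx : orderOf x = 19)
    (hS19 : ∀ (i : Fin 3) (m : ℕ) (c : ℤ), charDegree (χ i : G → ℂ) = 3 ^ 19 * m → (χ i : G → ℂ) x = c →
      (3 : ℤ) ∣ c - m)
    -- 31
    {P : Sylow 31 G} {K : Subgroup G} (hP : Nat.card P = 31)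
    (hK : IsComp 31 (P : Subgroup G) K) (hc : Nat.card K = 6) (hna : ∃ ψ : IrrCharacter K, (ψ : K → ℂ) 1 ≠ 1)
    (he : (centralizer ((P : Subgroup G) : Set G)).relIndex (normalizer ((P : Subgroup G) : Set G)) = 15)
    (hPT : (P : Subgroup G) ≤ T)
    (hθ : ∃ x x' : G, ∃ (hx : x ∈ (P : Subgroup G)) (hx' : x' ∈ (P : Subgroup G)), x ≠ 1 ∧ x' ≠ 1 ∧
      (θ : T → ℂ) ⟨x, hPT hx⟩ ≠ (θ : T → ℂ) ⟨x', hPT hx'⟩) {η : ℂ} (hη : η ^ 2 + η + 8 = 0) {r : G}
    (hr : r ∈ (P : Subgroup G)) (hr1 : r ≠ 1)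
    (hS31 : ∀ (i : Fin 3) (m : ℕ) (c : ℤ), charDegree (χ i : G → ℂ) = 3 ^ 19 * m →
      ((χ i : G → ℂ) r = c * η ∨ (χ i : G → ℂ) r = c * conj η) → (3 : ℤ) ∣ c + m) (i : Fin 3) :
    Cand (charDegree (χ i : G → ℂ)) := by
  have hv : ∀ i, (charDegree (χ i : G → ℂ)).factorization 3 = 19 := by
    intro i
    have h4 := h3 i
    rw [hG, fact_ordM] at h4
    omega
  have hm : ∀ i, charDegree (χ i : G → ℂ) = 3 ^ 19 * (charDegree (χ i : G → ℂ) / 3 ^ 19) ∧
      ¬ 3 ∣ charDegree (χ i : G → ℂ) / 3 ^ 19 := fun i =>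
    exists_m (Cfsg.Agent.Blocks.Basic.charDegree_pos (χ i).2) (hv i)
  have hS : ∀ (i : Fin 3) (c : ℤ), (χ i : G → ℂ) x = c → (3 : ℤ) ∣ c - (charDegree (χ i : G → ℂ) / 3 ^ 19 : ℕ) :=
    fun i c hc => hS19 i _ c (hm i).1 hc
  have hdeg := deg_inj h L (m := fun i => charDegree (χ i : G → ℂ) / 3 ^ 19) (fun i => (hm i).2) hx hS
  have hnT : ∀ p : ℕ, ¬ p ∣ 90745943887872000 → ¬ p ∣ Nat.card T := fun p hp => by rwa [hT]
  refine ⟨⟨_, (hm i).1⟩, ?_, ?_, ?_, ?_, ?_, ?_, ?_, ?_, ?_, ?_, ?_⟩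
  · have h4 := hQ i
    rw [hT, hG, hθ1] at h4
    have h5 : ordM * 767637 = 3 * 90745943887872000 *
        (2 ^ 31 * 3 ^ 19 * 5 ^ 6 * 7 ^ 4 * 11 ^ 2 * 13 ^ 3 * 17 * 23 * 29 * 41 * 47 * 59 * 71) := by
      unfold ordM; norm_num
    rw [h5] at h4
    exact Nat.dvd_of_mul_dvd_mul_left (by norm_num) h4
  · rw [← hG]
    exact sq_le_card (χ i)
  · exact res17 h hdeg L (hnT 17 (by norm_num)) hgal (by rw [hG]; unfold ordM; norm_num) i
  · exact res23 h hdeg L (hnT 23 (by norm_num)) i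
  · exact res29 h hdeg L (hnT 29 (by norm_num)) i
  · have := fact41
    obtain ⟨P', K', hP', hK', hc'⟩ := L.l41
    exact res41 h hdeg hP' hK' hc' (hnT 41 (by norm_num)) i
  · have := fact47
    obtain ⟨P', K', hP', hK', hc'⟩ := L.l47
    exact res41 h hdeg hP' hK' hc' (hnT 47 (by norm_num)) i
  · have := fact59
    obtain ⟨P', K', hP', hK', hc'⟩ := L.l59
    exact res41 h hdeg hP' hK' hc' (hnT 59 (by norm_num)) i
  · have := fact71
    obtain ⟨P', K', hP', hK', hc'⟩ := L.l71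
    exact res41 h hdeg hP' hK' hc' (hnT 71 (by norm_num)) i
  · exact res19 L (m := fun i => charDegree (χ i : G → ℂ) / 3 ^ 19) (fun i => (hm i).2) hx hS i
  · obtain ⟨c, h4, h5, h6⟩ := val31 h hP hK hc hna he hPT hθ hη hr hr1 i
    exact num31 h6 (hS31 i _ c (hm i).1 h5) h4

/-- the intersection of `C(u)` and `C(r)` -/
theorem cent_inter (h : Trio w T θ χ s) {r : T}
    (hC31 : Nat.card (centralizer ({r} : Set T)) = 31) {k : G} (hk : k * w = w * k) (hkr : k * r = r * k) :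
    k ^ 93 = 1 := by
  have : Fact (Nat.Prime 3) := ⟨Nat.prime_three⟩
  obtain ⟨E, hE⟩ := Cfsg.Agent.H66.LD.Three.exists_equiv (p := 3) h.hu rfl h.le h.card h.notMem
  obtain ⟨⟨x, t⟩, hxt⟩ := E.surjective ⟨k, mem_centralizer_singleton_iff.2 hk⟩
  have h1 := hE x t
  rw [hxt] at h1
  have h1 : k = x * t := h1
  obtain ⟨i, hi⟩ := mem_zpowers_iff.1 x.2
  have hcw : ∀ a ∈ T, Commute (x : G) a := by
    intro a ha
    rw [← hi]
    exact (show Commute w a from (h.comm a ha).symm).zpow_left i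
  have h2 : t * r = r * t := by
    apply Subtype.ext
    have h3 : (x : G) * (t * r) = x * (r * t) := by
      calc (x : G) * (t * r) = (x * t) * r := by group
        _ = r * (x * t) := by rw [← h1, hkr]
        _ = (r * x) * t := by group
        _ = (x * r) * t := by rw [(hcw r r.2).eq]
        _ = x * (r * t) := by group
    exact mul_left_cancel h3
  have h4 : t ^ 31 = 1 := by
    have h5 := pow_card_eq_one' (x := (⟨t, mem_centralizer_singleton_iff.2 h2⟩ : centralizer ({r} : Set T)))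
    rw [hC31] at h5
    exact congrArg Subtype.val h5
  have h6 : (x : G) ^ 3 = 1 := by
    rw [← hi, ← zpow_natCast, ← zpow_mul, mul_comm, zpow_mul]
    have h7 : w ^ ((3 : ℕ) : ℤ) = 1 := by
      rw [zpow_natCast, ← h.hu, pow_orderOf_eq_one]
    rw [h7, one_zpow]
  have h7 : (t : G) ^ 31 = 1 := by
    rw [← coe_pow, h4, coe_one]
  rw [h1, (hcw t t.2).mul_pow, show 93 = 3 * 31 by norm_num, pow_mul, h6, one_pow, one_mul, mul_comm 3 31, pow_mul, h7,
    one_pow]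

/-- the local data at 31 -/
theorem exists_31 (h : Trio w T θ χ s) (hG2 : ¬ 31 ^ 2 ∣ Nat.card G) (hT2 : ¬ 31 ^ 2 ∣ Nat.card T)
    (hC31 : ∀ y : T, orderOf y = 31 → Nat.card (centralizer ({y} : Set T)) = 31)
    (hC31' : ∀ y : G, orderOf y = 31 → Nat.card (centralizer ({y} : Set G)) = 31 * 6)
    (hη : ∀ y : T, orderOf y = 31 → (θ : T → ℂ) y ^ 2 + (θ : T → ℂ) y + 8 = 0)
    (hθ1 : charDegree (θ : T → ℂ) = 767637) {r : T} (hr : orderOf r = 31) :
    ∃ (P : Sylow 31 G) (K : Subgroup G), (P : Subgroup G) = zpowers (r : G) ∧ Nat.card P = 31 ∧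
      IsComp 31 (P : Subgroup G) K ∧ Nat.card K = 6 ∧ (∃ ψ : IrrCharacter K, (ψ : K → ℂ) 1 ≠ 1) ∧
      (centralizer ((P : Subgroup G) : Set G)).relIndex (normalizer ((P : Subgroup G) : Set G)) = 15 := by
  have := fact31
  have hr' : orderOf (r : G) = 31 := by rw [Subgroup.orderOf_coe, hr]
  obtain ⟨P, K, hPr, hP, hK, hKc⟩ := exists_self hG2 hr' (hC31' _ hr')
  have hPT : (P : Subgroup G) ≤ T := by
    rw [hPr, zpowers_le]
    exact r.2
  have hw : w ∈ K := by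
    rw [hK]
    refine ⟨?_, by rw [h.hu]; norm_num⟩
    rw [mem_centralizer_iff]
    intro y hy
    exact h.comm y (hPT hy)
  -- `K` is not abelian
  have hna : ∃ ψ : IrrCharacter K, (ψ : K → ℂ) 1 ≠ 1 := by
    refine H686.PGal.exists_nonlinear fun hb => ?_
    have hcomm : ∀ a b : K, a * b = b * a := by
      intro a b
      rw [_root_.commutator_def, Subgroup.commutator_eq_bot_iff_le_centralizer] at hb
      exact (mem_centralizer_iff.1 (hb (mem_top a)) b (mem_top b)).symm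
    have : Fact (Nat.Prime 2) := ⟨Nat.prime_two⟩
    obtain ⟨k, hk⟩ := exists_prime_orderOf_dvd_card' (G := K) 2 (by rw [hKc]; norm_num)
    have h2 : (k : G) ^ 93 = 1 := cent_inter h (hC31 r hr) (congrArg Subtype.val (hcomm k ⟨w, hw⟩))
      (hK.comm (show (r : G) ∈ (P : Subgroup G) by rw [hPr]; exact mem_zpowers _) k.2).symm
    have h3 : orderOf (k : G) ∣ 93 := orderOf_dvd_of_pow_eq_one h2
    rw [Subgroup.orderOf_coe, hk] at h3
    norm_num at h3
  refine ⟨P, K, hPr, hP, hK, hKc, hna, ?_⟩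
  -- the inertial index
  have h1 := relIndex_dvd hK hP
  obtain ⟨PT, KT, hPTr, hPTc, -, -⟩ := exists_T hT2 hC31 hr
  have h2 : (P : Subgroup G) = (PT : Subgroup T).map T.subtype := by
    rw [hPr, hPTr, MonoidHom.map_zpowers]
    rfl
  have h3 := relIndex_le h2
  rw [rel31_T hT2 hC31 θ hη (by rw [Cfsg.Agent.Blocks.Basic.irr_one_eq_charDegree θ.2, hθ1]) hPTc] at h3
  have h4 : (centralizer ((P : Subgroup G) : Set G)).relIndex (normalizer ((P : Subgroup G) : Set G)) ≠ 30 := by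
    intro h5
    have h6 := const_of_full hK hP hKc hna h5 (χ 0)
    obtain ⟨ε, h7, h8⟩ := h.exists_sign 0
    have hε : (ε : ℂ) ≠ 0 := by
      rcases h7 with rfl | rfl <;> norm_num
    have hrP : (r : G) ∈ (P : Subgroup G) := by rw [hPr]; exact mem_zpowers _
    have hr1 : (r : G) ≠ 1 := by
      intro h9
      rw [h9, orderOf_one] at hr'
      norm_num at hr'
    have h9 := h6 ⟨r, hrP⟩ ⟨(r : G)⁻¹, inv_mem hrP⟩ (fun h => hr1 (congrArg Subtype.val h))
      (fun h => hr1 (inv_eq_one.1 (congrArg Subtype.val h))) ⟨w, hw⟩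
    change (χ 0 : G → ℂ) (r * w) = (χ 0 : G → ℂ) ((r : G)⁻¹ * w) at h9
    rw [h.comm _ r.2, h.comm _ (inv_mem r.2)] at h9
    have h10 := h8 r (by rw [hr]; norm_num)
    have h11 := h8 r⁻¹ (by rw [orderOf_inv, hr]; norm_num)
    rw [coe_inv] at h11
    rw [h10, h11] at h9
    have h12 := mul_left_cancel₀ hε h9
    rw [isCharacter_apply_inv (isIrr_isCharacter θ.2)] at h12
    exact not_real (hη r hr) h12.symm
  have h5 : (centralizer ((P : Subgroup G) : Set G)).relIndex (normalizer ((P : Subgroup G) : Set G)) ≤ 30 :=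
    Nat.le_of_dvd (by norm_num) h1
  generalize (centralizer ((P : Subgroup G) : Set G)).relIndex (normalizer ((P : Subgroup G) : Set G)) = e at *
  obtain ⟨c, hc⟩ := h1
  have h6 : c ≤ 2 := by
    by_contra h7
    have h8 : 15 * 3 ≤ e * c := Nat.mul_le_mul h3 (by omega)
    omega
  interval_cases c <;> omega

/-- **The conditions of the sieve**, reduced hypotheses. -/
theorem cand' (h : Trio w T θ χ s) (L : LocM G) (hG : Nat.card G = ordM) (hT : Nat.card T = 90745943887872000)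
    (hθ1 : charDegree (θ : T → ℂ) = 767637)
    (h3 : ∀ i, (charDegree (χ i : G → ℂ)).factorization 3 + 1 = (Nat.card G).factorization 3)
    (hQ : ∀ i, 3 * Nat.card T * charDegree (χ i : G → ℂ) ∣ Nat.card G * charDegree (θ : T → ℂ))
    (hC31 : ∀ y : T, orderOf y = 31 → Nat.card (centralizer ({y} : Set T)) = 31)
    (hC31' : ∀ y : G, orderOf y = 31 → Nat.card (centralizer ({y} : Set G)) = 31 * 6)
    (hη : ∀ y : T, orderOf y = 31 → (θ : T → ℂ) y ^ 2 + (θ : T → ℂ) y + 8 = 0)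
    {x : G} (hx : orderOf x = 19)
    (hS19 : ∀ (i : Fin 3) (m : ℕ) (c : ℤ), charDegree (χ i : G → ℂ) = 3 ^ 19 * m → (χ i : G → ℂ) x = c →
      (3 : ℤ) ∣ c - m)
    {r : T} (hr : orderOf r = 31)
    (hS31 : ∀ (i : Fin 3) (m : ℕ) (c : ℤ), charDegree (χ i : G → ℂ) = 3 ^ 19 * m →
      ((χ i : G → ℂ) r = c * (θ : T → ℂ) r ∨ (χ i : G → ℂ) r = c * conj ((θ : T → ℂ) r)) → (3 : ℤ) ∣ c + m)
    (i : Fin 3) : Cand (charDegree (χ i : G → ℂ)) := by
  have := fact31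
  have hG2 : ¬ 31 ^ 2 ∣ Nat.card G := by rw [hG]; unfold ordM; norm_num
  have hT2 : ¬ 31 ^ 2 ∣ Nat.card T := by rw [hT]; norm_num
  have hr' : orderOf (r : G) = 31 := by rw [Subgroup.orderOf_coe, hr]
  obtain ⟨P, K, hPr, hP, hK, hKc, hna, he⟩ := exists_31 h hG2 hT2 hC31 hC31' hη hθ1 hr
  have hPT : (P : Subgroup G) ≤ T := by
    rw [hPr, zpowers_le]
    exact r.2
  have hrP : (r : G) ∈ (P : Subgroup G) := by rw [hPr]; exact mem_zpowers _
  have hr1 : (r : G) ≠ 1 := by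
    intro h9
    rw [h9, orderOf_one] at hr'
    norm_num at hr'
  refine cand h L hG hT hθ1 h3 hQ (fun m hm h1 t _ => gal31 hT2 hC31 (by rw [hT]; norm_num) θ hη
    (hm.coprime_dvd_right (Subgroup.card_subgroup_dvd_card T)) h1 t) hx hS19 hP hK hKc hna he hPT
    ⟨r, (r : G)⁻¹, hrP, inv_mem hrP, hr1, fun h => hr1 (inv_eq_one.1 h), ?_⟩ (η := (θ : T → ℂ) r) (hη r hr) hrP hr1
    hS31 i
  intro h12
  have h13 : (⟨(r : G)⁻¹, hPT (inv_mem hrP)⟩ : T) = r⁻¹ := rfl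
  rw [h13, isCharacter_apply_inv (isIrr_isCharacter θ.2)] at h12
  exact not_real (hη r hr) h12.symm

/-- **One of the three degrees is prime to `196883`.** -/
theorem exists_coprime (h : Trio w T θ χ s) (hc : ∀ i, Cand (charDegree (χ i : G → ℂ))) :
    ∃ i, Nat.Coprime (charDegree (χ i : G → ℂ)) 196883 := by
  rcases m_sieve (hc 0) (hc 1) (hc 2) h.deg with h1 | h1 | h1
  · exact ⟨0, h1⟩
  · exact ⟨1, h1⟩
  · exact ⟨2, h1⟩

end Cfsg.Agent.H676.Deg.RowM
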