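import Mathlib
import Cfsg.Agent.H676.Deg.RowM
import Cfsg.Agent.H715.Mon.Norm
import Cfsg.Agent.H377.TwoConv.LSeven

/-!
# The local data of the Monster (helper676, S4910, row M)

* `exists_K` : `K ≃* C(y)/⟨y⟩`; `locM` : `LocM Gam` from helper715's centralizers and the orders of the centralizers of the
  elements of orders 29, 41, 47, 59, 71.
-/

set_option autoImplicit false
set_option linter.unusedSectionVars false

open Cfsg

namespace Cfsg.Agent.H676.Deg.LocM

open Subgroup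
open Cfsg.Agent.SmallSimple.ThetaSetup
open Cfsg.Agent.H241.NH Cfsg.Agent.H241.Mon
open Cfsg.Agent.LThreeMB (XX mk exists_mk mk_eq_one mk_eq_mk Zx self)

universe u

variable {G : Type u} [Group G] [Finite G]

omit [Finite G] in
/-- `|C(x)| = |XX x| |x|` -/
theorem card_cent (x : G) : Nat.card ↥(centralizer ({x} : Set G)) = Nat.card (XX x) * orderOf x := by
  rw [Subgroup.card_eq_card_quotient_mul_card_subgroup (Zx x)]
  congr 1
  change Nat.card ↥(zpowers (Cfsg.Agent.LThreeMB.self x)) = _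
  rw [Nat.card_zpowers, ← Subgroup.orderOf_coe]
  rfl

/-- `K ≃* C(y)/⟨y⟩` -/
theorem exists_K {q : ℕ} [Fact q.Prime] (hq2 : ¬ q ^ 2 ∣ Nat.card G) {c : ℕ} {y : G} (hy : orderOf y = q)
    (hC : Nat.card (centralizer ({y} : Set G)) = q * c) :
    ∃ (P : Sylow q G) (K : Subgroup G), (P : Subgroup G) = zpowers y ∧ Nat.card P = q ∧
      IsComp q (P : Subgroup G) K ∧ Nat.card K = c ∧ Nonempty (K ≃* XX y) := by
  obtain ⟨P, K, h1, h2, h3, h4⟩ := exists_self hq2 hy hC
  refine ⟨P, K, h1, h2, h3, h4, ?_⟩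
  have hyP : y ∈ (P : Subgroup G) := by rw [h1]; exact mem_zpowers y
  have hKy : ∀ k ∈ K, k * y = y * k := fun k hk => (h3.comm hyP hk).symm
  let f : K →* XX y :=
    { toFun := fun k => mk y (hKy k k.2)
      map_one' := rfl
      map_mul' := fun a b => rfl }
  have hf : Function.Injective f := by
    rw [injective_iff_map_eq_one]
    intro k hk
    obtain ⟨i, hi⟩ := (mk_eq_one (hKy k k.2)).1 hk
    have h5 : (k : G) ∈ (P : Subgroup G) := by
      rw [h1]
      exact ⟨i, hi⟩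
    exact Subtype.ext (h3.disjoint h2 h5 k.2)
  refine ⟨MulEquiv.ofBijective f (hf.bijective_of_nat_card_le ?_)⟩
  have h5 := card_cent y
  rw [hC, hy, mul_comm] at h5
  have hq : 0 < q := (Fact.out : q.Prime).pos
  rw [h4, Nat.eq_of_mul_eq_mul_right hq h5]

theorem deg7_congr {A B : Type*} [Group A] [Group B] [Finite A] [Finite B] (e : A ≃* B)
    (h : H442.ZerosSmall.Deg7 A) : H442.ZerosSmall.Deg7 B :=
  ⟨fun d hd => h.mem d (by rwa [H442.ZerosSmall.cnt_congr e]), by rw [← H442.ZerosSmall.cnt_congr e, h.one],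
    by rw [← H442.ZerosSmall.cnt_congr e, h.three], by rw [← H442.ZerosSmall.cnt_congr e, h.six],
    by rw [← H442.ZerosSmall.cnt_congr e, h.seven], by rw [← H442.ZerosSmall.cnt_congr e, h.eight]⟩

/-- a prime with a known centralizer -/
theorem loc_of {q : ℕ} [Fact q.Prime] (hd : q ∣ Nat.card G) (hq2 : ¬ q ^ 2 ∣ Nat.card G) {c : ℕ}
    (hC : ∀ y : G, orderOf y = q → Nat.card (centralizer ({y} : Set G)) = c * q) :
    ∃ (P : Sylow q G) (K : Subgroup G), Nat.card P = q ∧ IsComp q (P : Subgroup G) K ∧ Nat.card K = c := by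
  obtain ⟨y, hy⟩ := exists_prime_orderOf_dvd_card' (G := G) q hd
  obtain ⟨P, K, -, h2, h3, h4, -⟩ := exists_K hq2 hy (by rw [hC y hy, mul_comm])
  exact ⟨P, K, h2, h3, h4⟩

/-- **The local data of the Monster.** -/
theorem locM (h3 : Cfsg.Agent.H715.Mon.Grp.SThree.{0})
    (c29 : ∀ y : Gam, orderOf y = 29 → Nat.card (centralizer ({y} : Set Gam)) = 3 * 29)
    (c41 : ∀ y : Gam, orderOf y = 41 → Nat.card (centralizer ({y} : Set Gam)) = 41)
    (c47 : ∀ y : Gam, orderOf y = 47 → Nat.card (centralizer ({y} : Set Gam)) = 2 * 47)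
    (c59 : ∀ y : Gam, orderOf y = 59 → Nat.card (centralizer ({y} : Set Gam)) = 59)
    (c71 : ∀ y : Gam, orderOf y = 71 → Nat.card (centralizer ({y} : Set Gam)) = 71) : RowM.LocM Gam := by
  have := RowM.fact17
  have := RowM.fact19
  have := RowM.fact23
  have := RowM.fact29
  have := RowM.fact41
  have := RowM.fact47
  have := RowM.fact59
  have := RowM.fact71
  have hs17 : ¬ 17 ^ 2 ∣ Nat.card Gam := by rw [card_G]; norm_num
  have hs19 : ¬ 19 ^ 2 ∣ Nat.card Gam := by rw [card_G]; norm_num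
  have hs23 : ¬ 23 ^ 2 ∣ Nat.card Gam := by rw [card_G]; norm_num
  refine ⟨?_, ?_, ?_, ?_, ?_, ?_, ?_, ?_⟩
  · obtain ⟨y, hy⟩ := exists_prime_orderOf_dvd_card' (G := Gam) 17 (by rw [card_G]; norm_num)
    obtain ⟨P, K, -, h4, h5, h6, ⟨e⟩⟩ := exists_K hs17 hy (c := 168) (by rw [Cfsg.Agent.H715.Mon.Exact.card17 h3 hy])
    obtain ⟨f⟩ := Cfsg.Agent.H715.Mon.Norm.iso17 h3 hy
    have hsim := Cfsg.Agent.H377.TwoConv.simple_L7
    have hfin : Finite (Matrix.ProjectiveSpecialLinearGroup (Fin 2) (ZMod 7)) := Finite.of_equiv _ f.toEquiv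
    exact ⟨P, K, h4, h5, h6, (e.trans f).isSimpleGroup,
      deg7_congr (e.trans f).symm (H442.ZerosSmall.deg7 (ZMod.card 7))⟩
  · obtain ⟨y, hy⟩ := exists_prime_orderOf_dvd_card' (G := Gam) 19 (by rw [card_G]; norm_num)
    obtain ⟨P, K, -, h4, h5, -, ⟨e⟩⟩ := exists_K hs19 hy (c := 60) (by rw [Cfsg.Agent.H715.Mon.Exact.card19' h3 hy])
    obtain ⟨f⟩ := Cfsg.Agent.H715.Mon.Exact.iso19 h3 hy
    refine ⟨P, K, h4, h5, H442.ZerosSmall.deg_a5.congr (e.trans f).symm, fun x z hx hz => ?_⟩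
    exact Cfsg.Agent.H715.Mon.Norm.isConj_of (by norm_num) hs19 (fun Q hQ =>
      (Cfsg.Agent.H715.Mon.Norm.relIndex_eq (by norm_num) hs19
        (fun _ hx => Cfsg.Agent.H715.Mon.Exact.card19' h3 hx) (e := 18) (by norm_num) (by rw [card_G]) hQ).1) hx hz
  · obtain ⟨P, K, h4, h5, h6⟩ := loc_of (q := 23) (by rw [card_G]; norm_num) hs23 (c := 24)
      (fun y hy => Cfsg.Agent.H715.Mon.Exact.card23 h3 hy)
    exact ⟨P, K, h4, h5, h6, (Cfsg.Agent.H715.Mon.Norm.relIndex_eq (by norm_num) hs23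
      (fun _ hx => Cfsg.Agent.H715.Mon.Exact.card23 h3 hx) (e := 11) (by norm_num) (by rw [card_G]) h4).1⟩
  · exact loc_of (q := 29) (by rw [card_G]; norm_num) (by rw [card_G]; norm_num) c29
  · obtain ⟨P, K, h4, h5, h6⟩ := loc_of (q := 41) (by rw [card_G]; norm_num) (by rw [card_G]; norm_num) (c := 1)
      (fun y hy => by rw [c41 y hy])
    exact ⟨P, K, h4, h5, by omega⟩
  · obtain ⟨P, K, h4, h5, h6⟩ := loc_of (q := 47) (by rw [card_G]; norm_num) (by rw [card_G]; norm_num) (c := 2)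
      (fun y hy => by rw [c47 y hy])
    exact ⟨P, K, h4, h5, by omega⟩
  · obtain ⟨P, K, h4, h5, h6⟩ := loc_of (q := 59) (by rw [card_G]; norm_num) (by rw [card_G]; norm_num) (c := 1)
      (fun y hy => by rw [c59 y hy])
    exact ⟨P, K, h4, h5, by omega⟩
  · obtain ⟨P, K, h4, h5, h6⟩ := loc_of (q := 71) (by rw [card_G]; norm_num) (by rw [card_G]; norm_num) (c := 1)
      (fun y hy => by rw [c71 y hy])
    exact ⟨P, K, h4, h5, by omega⟩

end Cfsg.Agent.H676.Deg.LocM
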