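import Mathlib
import Cfsg.Agent.H676.Deg.Th31

/-!
# Inertial index `(p - 1) / 2`: the classes of the elements of order `p` (helper676, S4910, row M)

* `not_conj_inv` : `|N(P) : C(P)|` odd: `x` is not conjugate to `x⁻¹`;
* `conj_or` : `|N(P) : C(P)| = (p - 1) / 2` odd: the elements of order `p` are conjugate to `x` or `x⁻¹`;
* `rel31_G` : the inertial index of the Monster at 31 from `Trio`-free data.
-/

set_option autoImplicit false
set_option linter.unusedSectionVars false

open Cfsg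

namespace Cfsg.Agent.H676.Deg

open Subgroup
open Cfsg.Agent.Characters.Core Cfsg.Agent.SmallSimple.PrimeDual
open Cfsg.Agent.SmallSimple.ThetaSetup Cfsg.Agent.SmallSimple.ThetaOrtho
open Cfsg.Agent.SmallSimple.TheoremC Cfsg.Agent.SmallSimple.TheoremCCor

universe u

variable {G : Type u} [Group G] [Finite G] {p : ℕ} [Fact p.Prime] {P : Sylow p G} {K : Subgroup G}

/-- the inversion of a group of prime order -/
def invAut {Q : Type u} [Group Q] [Finite Q] {p : ℕ} (hp : p.Prime) (hQ : Nat.card Q = p) : MulAut Q :=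
  { toFun := fun x => x⁻¹
    invFun := fun x => x⁻¹
    left_inv := fun x => inv_inv x
    right_inv := fun x => inv_inv x
    map_mul' := fun a b => by rw [mul_inv_rev, comm_of_card hp hQ] }

theorem invAut_apply {Q : Type u} [Group Q] [Finite Q] {p : ℕ} (hp : p.Prime) (hQ : Nat.card Q = p) (x : Q) :
    invAut hp hQ x = x⁻¹ := rfl

theorem invAut_notMem {Q : Type u} [Group Q] [Finite Q] {p : ℕ} (hp : p.Prime) (hQ : Nat.card Q = p) (hp2 : p ≠ 2)
    {E : Subgroup (MulAut Q)} (hodd : Odd (Nat.card E)) : invAut hp hQ ∉ E := by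
  intro h
  have h2 : orderOf (invAut hp hQ) ∣ Nat.card E := by
    have := orderOf_dvd_natCard (⟨invAut hp hQ, h⟩ : E)
    rwa [← Subgroup.orderOf_coe] at this
  have h3 : invAut hp hQ ^ 2 = 1 := by
    ext x
    rw [pow_two, MulAut.mul_apply, invAut_apply, invAut_apply, inv_inv, MulAut.one_apply]
  have h4 : orderOf (invAut hp hQ) ∣ 2 := orderOf_dvd_of_pow_eq_one h3
  have h5 : orderOf (invAut hp hQ) = 1 := by
    rcases (Nat.dvd_prime Nat.prime_two).1 h4 with h5 | h5
    · exact h5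
    · rw [h5] at h2
      exact absurd (even_iff_two_dvd.2 h2) (Nat.not_even_iff_odd.2 hodd)
  have h6 : invAut hp hQ = 1 := orderOf_eq_one_iff.1 h5
  have : Nontrivial Q := by
    rw [← Finite.one_lt_card_iff_nontrivial, hQ]
    exact hp.one_lt
  obtain ⟨x, hx⟩ := exists_ne (1 : Q)
  have h7 : x⁻¹ = x := by
    rw [← invAut_apply hp hQ, h6, MulAut.one_apply]
  have h8 : x ^ 2 = 1 := by
    rw [pow_two]
    nth_rewrite 1 [← h7]
    exact inv_mul_cancel x
  have h9 : orderOf x ∣ 2 := orderOf_dvd_of_pow_eq_one h8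
  have h10 : orderOf x ∣ p := by rw [← hQ]; exact orderOf_dvd_natCard x
  rcases (Nat.dvd_prime Nat.prime_two).1 h9 with h11 | h11
  · exact hx (orderOf_eq_one_iff.1 h11)
  · rw [h11] at h10
    exact hp2 ((Nat.prime_dvd_prime_iff_eq Nat.prime_two hp).1 h10).symm

theorem card_stabAct_one (hK : IsComp p (P : Subgroup G) K) (hP : Nat.card P = p) :
    Nat.card (stabAct hK (1 : K → ℂ)) =
      (centralizer ((P : Subgroup G) : Set G)).relIndex (normalizer ((P : Subgroup G) : Set G)) := by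
  refine card_stabAct_of_stable hK hP isIrr_one fun n hn => ?_
  funext y
  rw [tw_apply hK _ hn]
  rfl

/-- an automorphism of `P` induced by a conjugation -/
theorem mem_stabAct_one (hK : IsComp p (P : Subgroup G) K) {r : MulAut P} {n : G}
    (hn : n ∈ normalizer ((P : Subgroup G) : Set G)) (h : ∀ x : P, ((r x : P) : G) = n * x * n⁻¹) :
    r ∈ stabAct hK (1 : K → ℂ) := by
  rw [mem_stabAct]
  refine ⟨n, hn, h, ?_⟩
  funext y
  rw [tw_apply hK _ hn]
  rfl

/-- **not real** -/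
theorem not_conj_inv (hP : Nat.card P = p) (hp2 : p ≠ 2)
    (hodd : Odd ((centralizer ((P : Subgroup G) : Set G)).relIndex (normalizer ((P : Subgroup G) : Set G))))
    {x : G} (hx : x ∈ (P : Subgroup G)) (hx1 : x ≠ 1) : ¬ IsConj x x⁻¹ := by
  have hp : p.Prime := Fact.out
  intro hc
  obtain ⟨g, hg⟩ := isConj_iff.1 hc
  obtain ⟨K, hK⟩ := exists_isComp P hP
  have hgN : g ∈ normalizer ((P : Subgroup G) : Set G) :=
    mem_normalizer_of_conj hP hx (inv_mem hx) (fun h => hx1 (inv_eq_one.1 h)) hg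
  have hgen := gen_of_prime hp hP (⟨x, hx⟩ : P) (fun h => hx1 (congrArg Subtype.val h))
  have h1 : invAut hp hP ∈ stabAct hK (1 : K → ℂ) := by
    refine mem_stabAct_one hK hgN fun y => ?_
    rw [invAut_apply]
    obtain ⟨k, hk⟩ := mem_zpowers_iff.1 (hgen y)
    have h2 : (y : G) = x ^ k := by rw [← hk]; rfl
    rw [coe_inv, h2, ← conj_zpow, hg, inv_zpow]
  exact invAut_notMem hp hP hp2 (by rw [card_stabAct_one hK hP]; exact hodd) h1

/-- **the elements of order `p`** -/
theorem conj_or (hP : Nat.card P = p) {e : ℕ} (h2e : 2 * e = p - 1) (hodd : Odd e)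
    (he : (centralizer ((P : Subgroup G) : Set G)).relIndex (normalizer ((P : Subgroup G) : Set G)) = e)
    {x y : G} (hx : x ∈ (P : Subgroup G)) (hx1 : x ≠ 1) (hy : orderOf y = p) : IsConj x y ∨ IsConj x⁻¹ y := by
  have hp : p.Prime := Fact.out
  have hp2 : p ≠ 2 := by
    rintro rfl
    obtain ⟨m, hm⟩ := hodd
    omega
  obtain ⟨K, hK⟩ := exists_isComp P hP
  -- a conjugate of `y` lies in `P`
  have hyp : IsPGroup p (zpowers y) := IsPGroup.of_card (n := 1) (by rw [Nat.card_zpowers, hy, pow_one])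
  obtain ⟨Q, hQ⟩ := hyp.exists_le_sylow
  obtain ⟨g, hg⟩ := MulAction.exists_smul_eq G Q P
  have hy' : g * y * g⁻¹ ∈ (P : Subgroup G) := by
    rw [← hg]
    exact Subgroup.smul_mem_pointwise_smul y (MulAut.conj g) Q (hQ (mem_zpowers y))
  have hy1 : g * y * g⁻¹ ≠ 1 := by
    intro h
    have h2 := conj_eq_one_iff.1 h
    rw [h2, orderOf_one] at hy
    exact hp.one_lt.ne hy
  have hx1' : (⟨x, hx⟩ : P) ≠ 1 := fun h => hx1 (congrArg Subtype.val h)
  obtain ⟨r, hr⟩ := exists_mulAut hp hP hx1' (y := (⟨g * y * g⁻¹, hy'⟩ : P)) (fun h => hy1 (congrArg Subtype.val h))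
  have hcard := card_stabAct_one hK hP
  rw [he] at hcard
  have hidx : (stabAct hK (1 : K → ℂ)).index = 2 := by
    have h2 : Nat.card (MulAut P) = p - 1 := by
      have : IsCyclic P := isCyclic_of_prime_card hP
      rw [IsCyclic.card_mulAut, hP, Nat.totient_prime hp]
    have h3 := (stabAct hK (1 : K → ℂ)).card_mul_index
    rw [h2, hcard, ← h2e, mul_comm 2 e] at h3
    exact Nat.eq_of_mul_eq_mul_left hodd.pos h3
  have hinv := invAut_notMem hp hP hp2 (E := stabAct hK (1 : K → ℂ)) (by rw [hcard]; exact hodd)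
  have hfin : ∀ z : P, IsConj (z : G) (g * y * g⁻¹) → IsConj (z : G) y := by
    intro z hz
    refine hz.trans (isConj_iff.2 ⟨g⁻¹, ?_⟩)
    group
  by_cases hrE : r ∈ stabAct hK (1 : K → ℂ)
  · left
    obtain ⟨n, -, h1, -⟩ := (mem_stabAct hK _).1 hrE
    have h2 := h1 ⟨x, hx⟩
    rw [hr] at h2
    exact hfin ⟨x, hx⟩ (isConj_iff.2 ⟨n, h2.symm⟩)
  · right
    have h3 : r * invAut hp hP ∈ stabAct hK (1 : K → ℂ) := by
      by_contra h4
      have h5 := (Subgroup.mul_mem_iff_of_index_two hidx (a := r) (b := invAut hp hP))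
      exact h4 (h5.2 ⟨fun h => absurd h hrE, fun h => absurd h hinv⟩)
    obtain ⟨n, -, h1, -⟩ := (mem_stabAct hK _).1 h3
    have h2 := h1 (⟨x, hx⟩ : P)⁻¹
    rw [MulAut.mul_apply, invAut_apply, inv_inv, hr] at h2
    exact hfin (⟨x, hx⟩ : P)⁻¹ (isConj_iff.2 ⟨n, h2.symm⟩)

end Cfsg.Agent.H676.Deg
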