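import Mathlib
import Cfsg.Agent.H676.Deg.RowM
import Cfsg.Agent.H676.Deg.ThLoc
import Cfsg.Agent.H792.LD.CongM

/-!
# S4910, row M: assembly in abstract form (helper676)

`main` : a group `G` of the order of the Monster, `u` of order 3, `C(u) = ⟨u⟩ × T`, `T` of the order of `Th`, `u` inverted by
an element centralizing `T`, `θ ∈ Irr T` of degree `767637` with `θ y` a root of `z² + z + 8` for the elements `y` of order
31, the centralizers of the elements of orders 19, 31 in `T` and `G`, and `LocM G`: `G` has an irreducible character `χ ≠ 1`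
of degree prime to `196883`.
-/

set_option autoImplicit false
set_option linter.unusedSectionVars false

open Cfsg
open scoped ComplexConjugate

namespace Cfsg.Agent.H676.Deg.MAsm

open Subgroup
open Cfsg.Agent.Characters.Core
open Cfsg.Agent.SmallSimple.ThetaSetup
open Cfsg.Agent.H853.Sieve.RowM
open Cfsg.Agent.H676.Deg.RowM

universe u

variable {G : Type u} [Group G] [Finite G]

theorem fact_card : (90745943887872000 : ℕ).factorization 3 = 10 := by
  have h : (90745943887872000 : ℕ) = 3 ^ 10 * 1536790528000 := by norm_num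
  rw [h, Nat.factorization_mul (by norm_num) (by norm_num), Finsupp.add_apply, Nat.prime_three.factorization_pow,
    Finsupp.single_eq_same, Nat.factorization_eq_zero_of_not_dvd (by norm_num)]

theorem fact_deg : (767637 : ℕ).factorization 3 = 10 := by
  have h : (767637 : ℕ) = 3 ^ 10 * 13 := by norm_num
  rw [h, Nat.factorization_mul (by norm_num) (by norm_num), Finsupp.add_apply, Nat.prime_three.factorization_pow,
    Finsupp.single_eq_same, Nat.factorization_eq_zero_of_not_dvd (by norm_num)]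

theorem main (hG : Nat.card G = ordM) (L : LocM G) {w n : G} {T : Subgroup G} (hu : orderOf w = 3)
    (hTC : T ≤ centralizer ({w} : Set G)) (hcard : Nat.card (centralizer ({w} : Set G)) = 3 * Nat.card T)
    (huT : w ∉ T) (hn : n * w * n⁻¹ = w⁻¹) (hnT : ∀ t ∈ T, n * t * n⁻¹ = t)
    (hT : Nat.card T = 90745943887872000) (θ : IrrCharacter T) (hθ1 : charDegree (θ : T → ℂ) = 767637)
    (hη : ∀ y : T, orderOf y = 31 → (θ : T → ℂ) y ^ 2 + (θ : T → ℂ) y + 8 = 0)
    (hC19T : ∀ y : T, orderOf y = 19 → Nat.card (centralizer ({y} : Set T)) = 19)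
    (hconj : ∀ s t : T, orderOf s = 19 → orderOf t = 19 → IsConj s t)
    (hC31T : ∀ y : T, orderOf y = 31 → Nat.card (centralizer ({y} : Set T)) = 31)
    (hC19 : ∀ y : G, orderOf y = 19 → Nat.card (centralizer ({y} : Set G)) = 60 * 19)
    (hC31 : ∀ y : G, orderOf y = 31 → Nat.card (centralizer ({y} : Set G)) = 6 * 31) :
    ∃ χ : IrrCharacter G, Nat.Coprime (charDegree (χ : G → ℂ)) 196883 ∧ 3 ∣ charDegree (χ : G → ℂ) := by
  have h3 : Nat.Prime 3 := Nat.prime_three
  have := fact31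
  obtain ⟨M, hM⟩ := Cfsg.Agent.Blocks.ExistsModular.exists_isPModular h3
  have hG' : Nat.card G = 808017424794512875886459904961710757005754368000000000 := by rw [hG]; rfl
  obtain ⟨B, θ', χ, s, h1, -, -, h4, h5, tr, h7, h8⟩ := exists_trio hM hu rfl hTC hcard huT hn hnT θ
    (by rw [hθ1, hT, fact_deg, fact_card])
  have hF19 : Fact (Nat.Prime 19) := ⟨by norm_num⟩
  obtain ⟨x, hx⟩ := exists_prime_orderOf_dvd_card' (G := T) 19 (by rw [hT]; norm_num)
  obtain ⟨r, hr⟩ := exists_prime_orderOf_dvd_card' (G := T) 31 (by rw [hT]; norm_num)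
  have hx' : orderOf (x : G) = 19 := by rw [Subgroup.orderOf_coe, hx]
  have hr' : orderOf (r : G) = 31 := by rw [Subgroup.orderOf_coe, hr]
  have hv : ∀ i, (charDegree (χ i : G → ℂ)).factorization 3 = 19 := by
    intro i
    have h9 := h7 i
    rw [hG, fact_ordM] at h9
    omega
  have hG2 : ¬ 31 ^ 2 ∣ Nat.card G := by rw [hG']; norm_num
  have hT2 : ¬ 31 ^ 2 ∣ Nat.card T := by rw [hT]; norm_num
  have hC31' : ∀ y : G, orderOf y = 31 → Nat.card (centralizer ({y} : Set G)) = 31 * 6 := fun y hy => by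
    rw [hC31 y hy]
  -- 31 in `T`
  obtain ⟨PT, KT, hPTr, hPTc, -, -⟩ := exists_T hT2 hC31T hr
  have hrel := rel31_T hT2 hC31T θ hη (by rw [Cfsg.Agent.Blocks.Basic.irr_one_eq_charDegree θ.2, hθ1]) hPTc
  have hrPT : r ∈ (PT : Subgroup T) := by rw [hPTr]; exact mem_zpowers _
  have hr1 : r ≠ 1 := by
    intro h9
    rw [h9, orderOf_one] at hr
    norm_num at hr
  have htwo : ∀ t : T, orderOf t = 31 → IsConj r t ∨ IsConj r⁻¹ t := fun t ht =>
    conj_or hPTc (e := 15) (by norm_num) (by decide) hrel hrPT hr1 ht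
  -- 31 in `G`
  obtain ⟨P, K, hPr, hP, hK, hKc, hna, he⟩ := exists_31 tr hG2 hT2 hC31T hC31' hη hθ1 hr
  have hrP : (r : G) ∈ (P : Subgroup G) := by rw [hPr]; exact mem_zpowers _
  have hnr : ¬ IsConj (r : G) (r : G)⁻¹ :=
    not_conj_inv hP (by norm_num) (by rw [he]; decide) hrP fun h9 => hr1 (Subtype.ext h9)
  have hc := cand' tr L hG hT hθ1 h7 h8 hC31T hC31' hη hx'
    (fun i m c hm hc => Cfsg.Agent.H792.LD.final19 hu rfl hTC hcard huT hG' hT θ hθ1 θ' h1 h4 (h5 i) (hv i) hM hx
      (by rw [hC19 _ hx']) (hC19T x hx) (fun t ht => hconj x t hx ht) m c hm hc) hr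
    (fun i m c hm hc => Cfsg.Agent.H792.LD.final31 hu rfl hTC hcard huT hG' hT θ hθ1 θ' h1 h4 (h5 i) (hv i) hM hr
      (by rw [hC31 _ hr']) (hC31T r hr) htwo hnr (hη r hr) rfl m c hm hc)
  obtain ⟨i, hi⟩ := exists_coprime tr hc
  exact ⟨χ i, hi, (dvd_pow_self 3 (by norm_num : 19 ≠ 0)).trans (hc i).three⟩

end Cfsg.Agent.H676.Deg.MAsm
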