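import Mathlib
import Cfsg.Agent.H676.Deg.LocM
import Cfsg.Agent.H676.Deg.MAsm
import Cfsg.Agent.H491.PB.ThC

/-!
# S4910, row M: the instance (helper676)

* `th_data` : the facts on `Th` at 19 and 31; `row` : the row of the Monster from (M0) the local structure of 3C, (M3) the
  character of `Th` of degree `767637`, and the orders of the centralizers of the elements of orders 29, 41, 47, 59, 71.
-/

set_option autoImplicit false
set_option linter.unusedSectionVars false

open Cfsg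
open scoped ComplexConjugate

namespace Cfsg.Agent.H676.Deg.MInst

open Subgroup
open Cfsg.Agent.Characters.Core
open Cfsg.Agent.H241.NH Cfsg.Agent.H241.Mon
open Cfsg.Agent.H853.Sieve.RowM

universe u

theorem card_cent_equiv {A B : Type*} [Group A] [Group B] (e : A ≃* B) (x : A) :
    Nat.card (centralizer ({x} : Set A)) = Nat.card (centralizer ({e x} : Set B)) := by
  refine Nat.card_congr (e.toEquiv.subtypeEquiv fun a => ?_)
  rw [mem_centralizer_singleton_iff, mem_centralizer_singleton_iff]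
  constructor
  · intro h
    change e a * e x = e x * e a
    rw [← map_mul, ← map_mul, h]
  · intro h
    have h1 : e a * e x = e x * e a := h
    rw [← map_mul, ← map_mul] at h1
    exact e.injective h1

/-- the facts on `Th` -/
theorem th_data {T : Type u} [Group T] [Finite T] (h : Spor.IsoTh T) :
    Nat.card T = 90745943887872000 ∧
    (∀ y : T, orderOf y = 19 → Nat.card (centralizer ({y} : Set T)) = 19) ∧
    (∀ s t : T, orderOf s = 19 → orderOf t = 19 → IsConj s t) ∧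
    (∀ y : T, orderOf y = 31 → Nat.card (centralizer ({y} : Set T)) = 31) := by
  obtain ⟨e⟩ := h
  have hT : Nat.card T = 90745943887872000 := by rw [Nat.card_congr e.toEquiv, S1700.result.2]
  have h19 : ∀ y : T, orderOf y = 19 → Nat.card (centralizer ({y} : Set T)) = 19 := by
    intro y hy
    rw [card_cent_equiv e y]
    exact H491.PB.Th.card_nineteen (by rw [MulEquiv.orderOf_eq, hy])
  refine ⟨hT, h19, fun s t hs ht => ?_, fun y hy => ?_⟩
  · exact Cfsg.Agent.H715.Mon.Norm.isConj_of (by norm_num) (by rw [hT]; norm_num) (fun Q hQ =>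
      (Cfsg.Agent.H715.Mon.Norm.relIndex_eq (by norm_num) (by rw [hT]; norm_num)
        h19 (e := 18) (by norm_num) (by rw [hT]) hQ).1) hs ht
  · rw [card_cent_equiv e y]
    exact H491.PB.Th.card_thirtyone (by rw [MulEquiv.orderOf_eq, hy])

/-- transport of the character of `Th` -/
theorem theta_T {T : Type u} [Group T] [Finite T] (h : Spor.IsoTh T)
    (hθ : ∃ θ : Spor.Th → ℂ, IsIrrCharacter Spor.Th θ ∧ θ 1 = 767637 ∧
      ∀ y, orderOf y = 31 → θ y ^ 2 + θ y + 8 = 0) :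
    ∃ θ : IrrCharacter T, charDegree (θ : T → ℂ) = 767637 ∧
      ∀ y : T, orderOf y = 31 → (θ : T → ℂ) y ^ 2 + (θ : T → ℂ) y + 8 = 0 := by
  obtain ⟨e⟩ := h
  obtain ⟨θ, h1, h2, h3⟩ := hθ
  have h4 : IsIrrCharacter T (θ ∘ e) := isIrr_comp e.toMonoidHom e.surjective h1
  refine ⟨⟨θ ∘ e, h4⟩, ?_, fun y hy => h3 (e y) (by rw [MulEquiv.orderOf_eq, hy])⟩
  have h5 := Cfsg.Agent.Blocks.Basic.irr_one_eq_charDegree h4
  rw [Function.comp_apply, map_one, h2] at h5
  have h6 : ((767637 : ℕ) : ℂ) = charDegree (θ ∘ e) := by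
    rw [← h5]; norm_num
  exact_mod_cast h6.symm

/-- **The row of the Monster.** -/
theorem row (h3 : Cfsg.Agent.H715.Mon.Grp.SThree.{0})
    (c29 : ∀ y : Gam, orderOf y = 29 → Nat.card (centralizer ({y} : Set Gam)) = 3 * 29)
    (c41 : ∀ y : Gam, orderOf y = 41 → Nat.card (centralizer ({y} : Set Gam)) = 41)
    (c47 : ∀ y : Gam, orderOf y = 47 → Nat.card (centralizer ({y} : Set Gam)) = 2 * 47)
    (c59 : ∀ y : Gam, orderOf y = 59 → Nat.card (centralizer ({y} : Set Gam)) = 59)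
    (c71 : ∀ y : Gam, orderOf y = 71 → Nat.card (centralizer ({y} : Set Gam)) = 71)
    (m0 : ∃ (w n : Gam) (T : Subgroup Gam), orderOf w = 3 ∧ T ≤ centralizer ({w} : Set Gam) ∧
      Nat.card (centralizer ({w} : Set Gam)) = 3 * Nat.card T ∧ w ∉ T ∧ n * w * n⁻¹ = w⁻¹ ∧
      (∀ t ∈ T, n * t * n⁻¹ = t) ∧ Spor.IsoTh T)
    (m3 : ∃ θ : Spor.Th → ℂ, IsIrrCharacter Spor.Th θ ∧ θ 1 = 767637 ∧
      ∀ y, orderOf y = 31 → θ y ^ 2 + θ y + 8 = 0) :
    ∃ χ : IrrCharacter Gam, Nat.Coprime (charDegree (χ : Gam → ℂ)) 196883 ∧ 3 ∣ charDegree (χ : Gam → ℂ) := by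
  obtain ⟨w, n, T, h4, h5, h6, h7, h8, h9, hT⟩ := m0
  obtain ⟨θ, h10, h11⟩ := theta_T hT m3
  obtain ⟨h12, h13, h14, h15⟩ := th_data hT
  exact MAsm.main (by rw [card_G]; rfl) (LocM.locM h3 c29 c41 c47 c59 c71) h4 h5 h6 h7 h8 h9 h12 θ h10 h11 h13 h14 h15
    (fun y hy => Cfsg.Agent.H715.Mon.Exact.card19' h3 hy) (fun y hy => Cfsg.Agent.H715.Mon.Cent.card31 h3 hy)

end Cfsg.Agent.H676.Deg.MInst
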